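import Groth.Agent.L13.LeffCI.Forms
import Groth.Agent.L13.LefInter.Pro
import Groth.Agent.L22.DivSub.Basic
import Groth.Agent.L18.AmpleOps
import Groth.Agent.L13.AlgzSec.Setup
import Groth.Agent.L18.AmplePull

/-!
# The hyperplane sections cutting out a complete intersection
-/

set_option autoImplicit false
set_option linter.style.haveILetI false
set_option linter.unusedSectionVars false
set_option backward.isDefEq.respectTransparency false
set_option backward.isDefEq.respectTransparency.types false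
universe u

open CategoryTheory CategoryTheory.Limits AlgebraicGeometry Opposite

noncomputable section

namespace Groth.L13.LeffCI

open Groth.L22.Reg (sm sm_comp sm_id)
open Groth.L18.LefTower (sm_smul)
open Groth.L20.SeeNormal (sI)

variable {k : Type u} [Field k] {N : ℕ} {X : Scheme.{u}} {ι : X ⟶ CohB1.ProjSpace N k} {r : ℕ} {a : Fin r → ℕ}

/-- The zeros of the pullbacks of the forms cut out the complete intersection. -/
theorem exists_good_divisors (G : ∀ j, LefPen.Form N k (a j)) (ha : ∀ j, 1 ≤ a j) (hL : CohB1.IsAmple (T ι 1)) :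
    ∃ D : Fin r → X.IdealSheafData, (∀ j, Groth.L13.LefInter.Good (D j)) ∧
      ((((LefPen.ciIdeal G).comap ι).support : Set X)) = ⋂ j, ((D j).support : Set X) := by
  obtain ⟨e₀⟩ := nonempty_T_zero ι
  let s : ∀ j, Coh.structureModule X ⟶ T ι (a j : ℤ) := fun j =>
    e₀.inv ≫ fX ι (G j) (show (a j : ℤ) = 0 + (a j : ℤ) by omega)
  refine ⟨fun j => PicF2.zeroScheme (T ι (a j : ℤ)) (s j), fun j => ?_, ?_⟩
  · obtain ⟨e⟩ := nonempty_T_pow ι (a j)
    exact ⟨_, s j, Groth.L18.Ample.isAmple_of_iso e ((Groth.L18.Ample.isAmple_pow_iff hL.1 (ha j)).1 hL), rfl⟩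
  ext x
  obtain ⟨e, c, he, hc, hI⟩ := exists_frames ι G x
  obtain ⟨u, hu⟩ := (he 0).2 (sm x e₀.inv (Groth.L21.RR.one X x))
  have hu' : IsUnit u := by
    obtain ⟨v, hv⟩ := (Groth.L21.RR.bijective_smul_one x).2 (sm x e₀.hom (e 0))
    have h : sm x (e₀.inv ≫ e₀.hom) (Groth.L21.RR.one X x) = Groth.L21.RR.one X x := by rw [Iso.inv_hom_id, sm_id]
    rw [sm_comp, ← hu, sm_smul, ← hv, smul_smul] at h
    exact IsUnit.of_mul_eq_one v ((Groth.L21.RR.bijective_smul_one x).1 (h.trans (one_smul _ _).symm))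
  have key : ∀ j, x ∈ (PicF2.zeroScheme (T ι (a j : ℤ)) (s j)).support ↔ ¬ IsUnit (c j) := fun j => by
    obtain ⟨e', he', ρ, hρ, hZ⟩ := Groth.L13.AlgzSec.exists_sI_zeroScheme (isInvertible_T ι (a j : ℤ)) (s j) x
    rw [Groth.L22.DivSub.mem_support_iff, hZ, Ne, Ideal.span_singleton_eq_top, not_iff_not]
    obtain ⟨β, hβ⟩ := he'.2 (e (a j : ℤ))
    have hβ' : IsUnit β := by
      obtain ⟨γ, hγ⟩ := (he (a j : ℤ)).2 e'
      refine IsUnit.of_mul_eq_one γ ((he (a j : ℤ)).1 ?_)
      show (β * γ) • e _ = (1 : X.presheaf.stalk x) • e _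
      rw [one_smul, mul_smul]
      exact (congrArg (β • ·) hγ).trans hβ
    have h : ρ • e' = (u * c j * β) • e' := by
      rw [← hρ, mul_smul, mul_smul]
      show sm x (e₀.inv ≫ fX ι (G j) _) (Groth.L21.RR.one X x) = u • c j • β • e'
      rw [sm_comp, ← hu, sm_smul, hc, show β • e' = e _ from hβ]
    rw [he'.1 h, IsUnit.mul_iff, IsUnit.mul_iff]
    exact ⟨fun h => h.1.2, fun h => ⟨⟨hu', h⟩, hβ'⟩⟩
  rw [SetLike.mem_coe, Groth.L22.DivSub.mem_support_iff, hI, Set.mem_iInter]
  simp only [SetLike.mem_coe, key]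
  constructor
  · intro h j hj
    exact h (Ideal.eq_top_of_isUnit_mem _ (Ideal.subset_span ⟨j, rfl⟩) hj)
  · intro h htop
    have hle : Ideal.span (Set.range c) ≤ IsLocalRing.maximalIdeal (X.presheaf.stalk x) :=
      Ideal.span_le.2 (Set.range_subset_iff.2 fun j => h j)
    exact (IsLocalRing.maximalIdeal.isMaximal _).ne_top (top_le_iff.1 (htop ▸ hle))

end Groth.L13.LeffCI
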