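import Groth.Agent.L13.LeffCI.Red
import Groth.Agent.L13.LefInter.Ideals
import Groth.Agent.L13.LefInter.Hom
import Groth.Agent.L22.PDual.TwistExt

/-!
# Maps into the reductions of sums of twists
-/

set_option autoImplicit false
set_option linter.style.haveILetI false
set_option linter.unusedSectionVars false
set_option backward.isDefEq.respectTransparency false
set_option backward.isDefEq.respectTransparency.types false
universe u

open CategoryTheory CategoryTheory.Limits AlgebraicGeometry Opposite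

noncomputable section

namespace Groth.L13.LeffCI

open Groth.L00.Tensor (tensorMap tensorIso tensorComm tensorAssoc tensorUnitRight tensorRightF)
open Groth.L22.Reg (sm sm_comp sm_zero)
open Groth.L18.LefTower (sm_smul surjective_sm exists_preimage_of_sm_eq_zero)
open Groth.L20.SeeNormal (sI)
open Groth.L17.IdealMulSec (η)
open Groth.L13.LefInter (exists_sm_idealModι_iff)

variable {X : Scheme.{u}} (I : X.IdealSheafData)

/-- The quotient of the structure sheaf by a power of an ideal. -/
theorem iRed_toSubscheme (l : ℕ) : IRed I l (ClSub.toSubscheme (I ^ l)) := by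
  haveI : Epi (ClSub.toSubscheme (I ^ l)) := (Groth.L21.RR.shortExact_idealSeq (I ^ l)).epi_g
  refine ⟨fun x => surjective_sm _ x, fun x v => ⟨fun hv => ?_, fun hv => eq_zero_push I l _ x (sm_mem_pw I _ l hv)⟩⟩
  obtain ⟨ρ, rfl⟩ := (Groth.L21.RR.bijective_smul_one x).2 v
  obtain ⟨w, hw⟩ := exists_preimage_of_sm_eq_zero
    (S := ShortComplex.mk (ClSub.idealModι (I ^ l)) (ClSub.toSubscheme (I ^ l)) (kernel.condition _))
    (ShortComplex.exact_kernel _) x hv
  have h : ρ ∈ sI (I ^ l) x := (exists_sm_idealModι_iff (I ^ l) x ρ).1 ⟨w, hw⟩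
  rw [Groth.L20.Infinitesimal.sI_pow] at h
  exact Submodule.smul_mem_smul h trivial

/-- Compatible maps into the reductions of a sum of twists come from a map. -/
theorem exists_hom_red {W W' : X.Modules} (hW : PicF.IsInvertible W)
    (e : CohB1.tensorMod W' W ≅ Coh.structureModule X) (s : ℕ) {P : X.Modules}
    (hE : Coh.IsQCoh (CohB1.tensorMod (FlatMod.freeMod X s) W'))
    (hP : Lef.HomToFormalBijective I (CohB1.tensorMod P W))
    (tr : ∀ n, red I (CohB1.tensorMod (FlatMod.freeMod X s) W') (n + 1) ⟶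
      red I (CohB1.tensorMod (FlatMod.freeMod X s) W') n)
    (htr : ∀ n, η (I ^ (n + 1 + 1)) (CohB1.tensorMod (FlatMod.freeMod X s) W') ≫ tr n =
      η (I ^ (n + 1)) (CohB1.tensorMod (FlatMod.freeMod X s) W'))
    (ω : ∀ n, P ⟶ red I (CohB1.tensorMod (FlatMod.freeMod X s) W') n) (hω : ∀ n, ω (n + 1) ≫ tr n = ω n) :
    ∃ g, ∀ n, g ≫ η (I ^ (n + 1)) (CohB1.tensorMod (FlatMod.freeMod X s) W') = ω n := by
  classical
  haveI := hE
  let E := CohB1.tensorMod (FlatMod.freeMod X s) W'
  let R := tensorRightF W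
  haveI : R.IsEquivalence := Groth.L22.PDual.isEquivalence_tensorRightF (tensorComm W W' ≪≫ e)
  haveI : R.Additive := Functor.additive_of_preserves_binary_products _
  haveI : (tensorRightF W').Additive := by
    haveI : (tensorRightF W').IsEquivalence := Groth.L22.PDual.isEquivalence_tensorRightF e
    exact Functor.additive_of_preserves_binary_products _
  let inj : Fin s → (Coh.structureModule X ⟶ FlatMod.freeMod X s) := fun j =>
    Sigma.ι (fun _ : Fin s => Coh.structureModule X) j
  let prj : Fin s → (FlatMod.freeMod X s ⟶ Coh.structureModule X) := fun j =>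
    Sigma.desc fun i => if i = j then 𝟙 _ else 0
  have htot : ∑ j, prj j ≫ inj j = 𝟙 _ := Sigma.hom_ext _ _ fun i => by
    rw [Preadditive.comp_sum, Category.comp_id, Finset.sum_eq_single i]
    · simp [prj, inj]
    · intro j _ hj
      simp [prj, Ne.symm hj]
    · exact fun h => absurd (Finset.mem_univ i) h
  let u' : CohB1.tensorMod (CohB1.tensorMod (Coh.structureModule X) W') W ≅ Coh.structureModule X :=
    tensorAssoc _ _ _ ≪≫ tensorIso (Iso.refl _) e ≪≫ tensorUnitRight _
  let q : Fin s → (R.obj E ⟶ Coh.structureModule X) := fun j => R.map ((tensorRightF W').map (prj j)) ≫ u'.hom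
  let q' : Fin s → (Coh.structureModule X ⟶ R.obj E) := fun j => u'.inv ≫ R.map ((tensorRightF W').map (inj j))
  have hqq : ∑ j, q j ≫ q' j = 𝟙 (R.obj E) := by
    have : ∀ j, q j ≫ q' j = R.map ((tensorRightF W').map (prj j ≫ inj j)) := fun j => by
      simp only [q, q', Category.assoc, Iso.hom_inv_id_assoc, Functor.map_comp]
    rw [Finset.sum_congr rfl fun j _ => this j, ← Functor.map_sum, ← Functor.map_sum, htot]
    exact (congrArg R.map ((tensorRightF W').map_id _)).trans (R.map_id _)
  have hη : ∀ n, IRed I (n + 1) (R.map (η (I ^ (n + 1)) E)) := fun n => (iRed_η I (n + 1) E).tensorRight hW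
  haveI : ∀ n, Epi (R.map (η (I ^ (n + 1)) E)) := fun n => (hη n).epi
  haveI : ∀ n, Epi (ClSub.toSubscheme (I ^ (n + 1))) := fun n => (iRed_toSubscheme I (n + 1)).epi
  have hd : ∀ n j, ∃ d : R.obj (red I E n) ⟶ ClSub.quotMod (I ^ (n + 1)),
      R.map (η (I ^ (n + 1)) E) ≫ d = q j ≫ ClSub.toSubscheme (I ^ (n + 1)) := fun n j =>
    ⟨Abelian.epiDesc _ _ ((hη n).kernel_comp _ fun x v hv =>
      (sm_comp x (q j) _ v).trans (((iRed_toSubscheme I (n + 1)).2 x _).2 (sm_mem_pw I _ _ hv))),
      Abelian.comp_epiDesc _ _ _⟩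
  choose d hd using hd
  have hD : ∀ n j, ∃ D : ClSub.quotMod (I ^ (n + 1)) ⟶ R.obj (red I E n),
      ClSub.toSubscheme (I ^ (n + 1)) ≫ D = q' j ≫ R.map (η (I ^ (n + 1)) E) := fun n j =>
    ⟨Abelian.epiDesc _ _ ((iRed_toSubscheme I (n + 1)).kernel_comp _ fun x v hv =>
      (sm_comp x (q' j) _ v).trans (((hη n).2 x _).2 (sm_mem_pw I _ _ hv))),
      Abelian.comp_epiDesc _ _ _⟩
  choose D hD using hD
  have hdD : ∀ n, ∑ j, d n j ≫ D n j = 𝟙 _ := fun n => by
    rw [← cancel_epi (R.map (η (I ^ (n + 1)) E)), Preadditive.comp_sum]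
    refine (Finset.sum_congr rfl fun j _ => show _ = (q j ≫ q' j) ≫ R.map (η (I ^ (n + 1)) E) by
      rw [← Category.assoc, hd, Category.assoc, hD, ← Category.assoc]).trans ?_
    rw [← Preadditive.sum_comp, hqq, Category.id_comp]
    exact (Category.comp_id _).symm
  let y : Fin s → ∀ n, CohB1.tensorMod P W ⟶ ClSub.quotMod (I ^ (n + 1)) := fun j n => R.map (ω n) ≫ d n j
  have hy : ∀ j, Lef.IsFormalHom I (CohB1.tensorMod P W) (y j) := fun j n => by
    have h : d (n + 1) j ≫ Lef.quotMap (Lef.pow_succ_le I n) = R.map (tr n) ≫ d n j := by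
      rw [← cancel_epi (R.map (η (I ^ (n + 1 + 1)) E)), ← Category.assoc, hd, Category.assoc,
        ← Category.assoc (R.map _), ← R.map_comp, htr, hd]
      exact congrArg (q j ≫ ·) (Groth.L18.LefConnected.toSubscheme_quotMap _)
    show (R.map (ω (n + 1)) ≫ d (n + 1) j) ≫ _ = R.map (ω n) ≫ d n j
    rw [Category.assoc, h, ← Category.assoc, ← R.map_comp, hω]
  choose φ hφ using fun j => hP.2 (y j) (hy j)
  refine ⟨R.preimage (∑ j, φ j ≫ q' j), fun n => R.map_injective ?_⟩
  rw [R.map_comp, R.map_preimage, Preadditive.sum_comp]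
  refine (Finset.sum_congr rfl fun j _ => show _ = R.map (ω n) ≫ d n j ≫ D n j by
    rw [Category.assoc, ← hD, ← Category.assoc, hφ, Category.assoc]).trans ?_
  rw [← Preadditive.comp_sum, hdD, Category.comp_id]

end Groth.L13.LeffCI
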