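import Groth.Agent.L13.LeffCI.Mu
import Groth.Agent.L13.LefInter.Meet
import Groth.Agent.L07.RegularQuotient
import Groth.Agent.L18.LocPicCI

/-!
# Equations of a complete intersection in a regular scheme form regular sequences
-/

set_option autoImplicit false
set_option linter.style.haveILetI false
set_option linter.unusedSectionVars false
set_option backward.isDefEq.respectTransparency false
set_option backward.isDefEq.respectTransparency.types false
universe u

open CategoryTheory CategoryTheory.Limits AlgebraicGeometry TopologicalSpace IsLocalRing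

noncomputable section

namespace Groth.L13.LeffCI

open Groth.L20.SeeNormal (sI)
open Groth.L13.LefInter (cdim dim_closure_eq_cdim dim_stalk_add_cdim cdim_eq_zero_of_isClosed)

variable {k : Type u} [Field k] {X : Scheme.{u}} [X.Over (Spec (CommRingCat.of k))]
  [IsProper (X ↘ Spec (CommRingCat.of k))] [IsIntegral X]

/-- The local dimension bound along a closed subscheme. -/
theorem dim_stalk_subscheme_add {n d : ℕ} (hdim : topologicalKrullDim X = n) (J : X.IdealSheafData)
    (hJ : topologicalKrullDim ((J.support : Set X)) = d) (z : J.subscheme) :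
    ∃ b b' : ℕ, ringKrullDim (X.presheaf.stalk (J.subschemeι z)) = (b : WithBot ℕ∞) ∧
      ringKrullDim (J.subscheme.presheaf.stalk z) = (b' : WithBot ℕ∞) ∧
      b' + n ≤ d + b ∧ cdim k (J.subschemeι z) + b = n := by
  let Y := J.subscheme
  let j := J.subschemeι
  letI : Y.Over (Spec (CommRingCat.of k)) := ⟨j ≫ (X ↘ Spec (CommRingCat.of k))⟩
  haveI : IsProper (Y ↘ Spec (CommRingCat.of k)) :=
    inferInstanceAs (IsProper (j ≫ (X ↘ Spec (CommRingCat.of k))))
  haveI : LocallyOfFiniteType (Y ↘ Spec (CommRingCat.of k)) := inferInstance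
  obtain ⟨b, hb, hbn⟩ := dim_stalk_add_cdim k hdim (j z)
  obtain ⟨a, b', ha, hb', hab⟩ := Groth.L22.SchemeDim.exists_localDim k Y z
  refine ⟨b, b', hb, hb', ?_, hbn⟩
  have he := j.isClosedEmbedding
  have hYd : topologicalKrullDim Y = (d : WithBot ℕ∞) := by
    rw [← hJ, ← J.range_subschemeι]
    exact he.isEmbedding.toHomeomorph.isHomeomorph.topologicalKrullDim_eq
  have hle : FlatMor.localDim Y z ≤ (d : WithBot ℕ∞) :=
    (iInf_le _ (⟨⊤, trivial⟩ : {U : TopologicalSpace.Opens Y // z ∈ U})).trans
      (hYd ▸ Topology.IsInducing.subtypeVal.topologicalKrullDim_le)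
  rw [hab] at hle
  have h1 : a + b' ≤ d := by exact_mod_cast hle
  have h2 : cdim k (j z) = cdim k z := by
    have e := (he.isEmbedding.homeomorphImage (closure ({z} : Set Y))).isHomeomorph.topologicalKrullDim_eq
    rw [← he.closure_image_eq, Set.image_singleton, dim_closure_eq_cdim k z, dim_closure_eq_cdim k (j z)] at e
    exact_mod_cast e.symm
  have h3 : cdim k z = a := by rw [cdim, ha, Cardinal.toNat_natCast]
  omega

/-- A point of the closed subscheme. -/
theorem sI_le_maximal (J : X.IdealSheafData) (z : J.subscheme) :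
    sI J (J.subschemeι z) ≤ maximalIdeal (X.presheaf.stalk (J.subschemeι z)) := by
  intro t ht
  rw [IsLocalRing.mem_maximalIdeal]
  intro hu
  have h : sI J (J.subschemeι z) = sI J.subschemeι.ker (J.subschemeι z) := by rw [Scheme.IdealSheafData.ker_subschemeι]
  rw [h, ← Groth.L20.Infinitesimal.ker_stalkMap, RingHom.mem_ker] at ht
  exact (hu.map (J.subschemeι.stalkMap z).hom).ne_zero ht

variable (k) in
include k in
/-- The equations are a regular sequence and the quotient has the expected depth. -/
theorem regular_at {n r : ℕ} (hdim : topologicalKrullDim X = n) (hr : r ≤ n) (J : X.IdealSheafData)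
    (hJ : topologicalKrullDim ((J.support : Set X)) = ((n - r : ℕ) : WithBot ℕ∞))
    (hreg : ∀ x : X, IsRegularLocalRing (X.presheaf.stalk x)) (z : J.subscheme)
    (c : Fin r → X.presheaf.stalk (J.subschemeι z))
    (hc : sI J (J.subschemeι z) = Ideal.span (Set.range c)) :
    RingTheory.Sequence.IsWeaklyRegular (X.presheaf.stalk (J.subschemeι z)) (List.ofFn c) ∧
      (IsClosed ({z} : Set J.subscheme) → ∀ t : ℕ, t + r ≤ n →
        (t : ℕ∞) ≤ LocCoh.depth (J.subscheme.presheaf.stalk z) (J.subscheme.presheaf.stalk z)) := by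
  obtain ⟨b, b', hb, hb', hle, hbn⟩ := dim_stalk_subscheme_add (k := k) hdim J hJ z
  let x := J.subschemeι z
  haveI := hreg x
  haveI : IsLocallyNoetherian X := LocallyOfFiniteType.isLocallyNoetherian (X ↘ Spec (CommRingCat.of k))
  haveI : IsLocallyNoetherian J.subscheme := LocallyOfFiniteType.isLocallyNoetherian J.subschemeι
  let π := (J.subschemeι.stalkMap z).hom
  have hπ : Function.Surjective π := J.subschemeι.stalkMap_surjective z
  have hker : RingHom.ker π = Ideal.ofList (List.ofFn c) := by
    rw [show RingHom.ker π = sI J.subschemeι.ker x from Groth.L20.Infinitesimal.ker_stalkMap _ z,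
      Scheme.IdealSheafData.ker_subschemeι, hc, Groth.L07.RegIdeal.ofList_ofFn]
  have hmem : ∀ t ∈ List.ofFn c, t ∈ maximalIdeal (X.presheaf.stalk x) := fun t ht => by
    obtain ⟨i, rfl⟩ := List.mem_ofFn.1 ht
    exact sI_le_maximal J z (hc ▸ Ideal.subset_span ⟨i, rfl⟩)
  have hq : ringKrullDim (X.presheaf.stalk x ⧸ Ideal.ofList (List.ofFn c)) = (b' : WithBot ℕ∞) := by
    rw [← hb', ← hker]
    exact ringKrullDim_eq_of_ringEquiv (RingHom.quotientKerEquivOfSurjective hπ)
  have hreg' : RingTheory.Sequence.IsWeaklyRegular (X.presheaf.stalk x) (List.ofFn c) := by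
    refine Groth.L07.RegQuot.isWeaklyRegular_of_dim _ hmem ?_
    rw [hq, List.length_ofFn, hb]
    exact_mod_cast (show b' + r ≤ b by omega)
  refine ⟨hreg', fun hz t ht => ?_⟩
  refine Groth.L18.LocPic.le_depth_of_le_dim _ hmem hreg' π hπ hker ?_
  obtain ⟨h1, -⟩ := Groth.L18.LocPic.dim_depth r (List.ofFn c) (List.length_ofFn) hmem hreg' π hπ hker
  rw [hb', hb] at h1
  have h1' : b' + r = b := by exact_mod_cast h1
  have h0 : cdim k (J.subschemeι z) = 0 := cdim_eq_zero_of_isClosed k (by
    have := J.subschemeι.isClosedEmbedding.isClosedMap _ hz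
    rwa [Set.image_singleton] at this)
  rw [hb']
  exact_mod_cast (show t ≤ b' by omega)

end Groth.L13.LeffCI
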