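import Groth.Agent.L13.LeffCI.Cover
import Groth.Agent.L13.LeffCI.Hom
import Groth.Agent.L13.LeffCI.Regular
import Groth.Agent.L13.LeffCI.Divisors
import Groth.Agent.L13.LefInter.Main
import Groth.Agent.L18.FreeNearLevels
import Groth.Agent.L18.ModSysAlgz
import Groth.Agent.L16.ProjSpace.Dim

/-!
# The effective Lefschetz condition along complete intersections
-/

set_option autoImplicit false
set_option linter.style.haveILetI false
set_option linter.unusedSectionVars false
set_option backward.isDefEq.respectTransparency false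
set_option backward.isDefEq.respectTransparency.types false
universe u

open CategoryTheory CategoryTheory.Limits AlgebraicGeometry TopologicalSpace Opposite

noncomputable section

namespace Groth.L13.LeffCI

open Groth.L22.Reg (sm sm_comp sm_zero sm_map_sub)
open Groth.L18.LefTower (sm_smul surjective_sm exists_preimage_of_sm_eq_zero)
open Groth.L20.SeeNormal (sI)
open Groth.L17.IdealMulSec (η)
open Groth.L13.LefInter (supI support_supI pz_supI homToFormalBijective_of_pz Good cdim)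

variable {k : Type u} [Field k] {N : ℕ} {X : Scheme.{u}} [X.Over (Spec (CommRingCat.of k))]
  [IsProper (X ↘ Spec (CommRingCat.of k))] {ι : X ⟶ CohB1.ProjSpace N k} {r : ℕ} {a : Fin r → ℕ}
  {G : ∀ j, LefPen.Form N k (a j)} {I : X.IdealSheafData}

/-- Systems along the complete intersection algebraize. -/
theorem exists_algebraization (hE : Eqs ι G I) (hL : CohB1.IsAmple (T ι 1))
    (hd : ∀ z : ↥(I ^ (0 + 1)).subscheme, IsClosed ({z} : Set ↥(I ^ (0 + 1)).subscheme) →
      (2 : ℕ∞) ≤ LocCoh.depth ((I ^ (0 + 1)).subscheme.presheaf.stalk z) ((I ^ (0 + 1)).subscheme.presheaf.stalk z))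
    (hhom : ∀ P : X.Modules, Coh.IsCoh P → Lef.HomToFormalBijective I P)
    (𝔐 : FSch.ModSys (FSch.completionAlong X I)) (h𝔐 : LefX.LevelwiseFinLocFree 𝔐) :
    ∃ F : X.Modules, Coh.IsCoh F ∧ Nonempty (FSch.complMod I F ≅ 𝔐) := by
  classical
  haveI : IsLocallyNoetherian X := LocallyOfFiniteType.isLocallyNoetherian (X ↘ Spec (CommRingCat.of k))
  let 𝔗 := sysOf I 𝔐 h𝔐
  obtain ⟨s, m, ψ, hψ, hψe⟩ := exists_cover hE hL hd 𝔗
  let E := CohB1.tensorMod (FlatMod.freeMod X s) (T ι (-(m : ℤ)))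
  have hEb : FlatMod.IsFinLocFree E := Groth.L16.NegPow.isFinLocFree_freeTensor (isInvertible_T ι _) s
  haveI : Coh.IsQCoh E := (Groth.L16.NegPow.isCoh_of_isFinLocFree hEb).1
  let P := bundleSys I E hEb
  haveI : ∀ n, Epi (η (I ^ (n + 1)) E) := fun n => (iRed_η I (n + 1) E).epi
  have hk : ∀ n, kernel.ι (η (I ^ (n + 1)) E) ≫ ψ n = 0 := fun n =>
    (iRed_η I (n + 1) E).kernel_comp _ fun x v hv => 𝔗.eq_zero_of_mem n x (sm_mem_pw I _ _ hv)
  let φ : ∀ n, P.G n ⟶ 𝔗.G n := fun n => Abelian.epiDesc (η (I ^ (n + 1)) E) (ψ n) (hk n)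
  have hφη : ∀ n, η (I ^ (n + 1)) E ≫ φ n = ψ n := fun n => Abelian.comp_epiDesc _ _ _
  have hφ : ∀ n, φ (n + 1) ≫ 𝔗.tr n = P.tr n ≫ φ n := fun n => by
    refine (cancel_epi (η (I ^ (n + 1 + 1)) E)).1 ?_
    rw [← Category.assoc, hφη, hψ, ← Category.assoc, bundleSys_tr, hφη]
  have hφe : ∀ n, Epi (φ n) := fun n => by
    haveI := hψe n
    exact epi_of_epi_fac (hφη n)
  obtain ⟨K, κ, w, hκ, hKex⟩ := exists_kerSys I P 𝔗 φ hφ hφe
  obtain ⟨s', m', ψ', hψ', hψ'e⟩ := exists_cover hE hL hd K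
  obtain ⟨einv⟩ := nonempty_T_inv ι (m : ℤ)
  have hE' : Coh.IsCoh (CohB1.tensorMod (FlatMod.freeMod X s') (T ι (-(m' : ℤ)))) :=
    Groth.L16.NegPow.isCoh_of_isFinLocFree
      (Groth.L16.NegPow.isFinLocFree_freeTensor (isInvertible_T ι _) s')
  obtain ⟨g, hg⟩ := exists_hom_red I (W := T ι (m : ℤ)) (W' := T ι (-(m : ℤ))) (isInvertible_T ι _)
    (Groth.L00.Tensor.tensorComm _ _ ≪≫ einv) s (Groth.L16.NegPow.isCoh_of_isFinLocFree hEb).1
    (hhom _ (Groth.L03.Euler.isCoh_tensor (isInvertible_T ι (m : ℤ)) hE'))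
    P.tr (bundleSys_tr I E hEb) (fun n => ψ' n ≫ κ n)
    (fun n => by rw [Category.assoc, hκ, ← Category.assoc, hψ'])
  have hgψ : ∀ n, g ≫ ψ n = 0 := fun n => by
    rw [← hφη, ← Category.assoc, hg, Category.assoc, w, comp_zero]
  let F := cokernel g
  let β : ∀ n, F ⟶ 𝔗.G n := fun n => cokernel.desc g (ψ n) (hgψ n)
  have hπβ : ∀ n, cokernel.π g ≫ β n = ψ n := fun n => cokernel.π_desc _ _ _
  have hF : Coh.IsCoh F :=
    (Groth.L16.CohKernel.isCoh_kernel_cokernel hE' (Groth.L16.NegPow.isCoh_of_isFinLocFree hEb) g).2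
  refine ⟨F, hF, nonempty_complMod_iso 𝔐 hF β (fun n => ?_) (fun n x v => ?_) (fun n x v hv => ?_)⟩
  · refine (cancel_epi (cokernel.π g)).1 ?_
    rw [← Category.assoc, hπβ, hπβ]
    exact hψ n
  · haveI := hψe n
    obtain ⟨e, he⟩ := surjective_sm (ψ n) x v
    exact ⟨sm x (cokernel.π g) e, by rw [← sm_comp, hπβ]; exact he⟩
  · obtain ⟨e, rfl⟩ := surjective_sm (cokernel.π g) x v
    rw [← sm_comp, hπβ, ← hφη, sm_comp] at hv
    obtain ⟨c, hc⟩ := exists_preimage_of_sm_eq_zero (hKex n) x hv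
    haveI := hψ'e n
    obtain ⟨y, rfl⟩ := surjective_sm (ψ' n) x c
    have h1 := ((iRed_η I (n + 1) E).2 x (e - sm x g y)).1 (by
      rw [sm_map_sub, ← sm_comp, hg, sub_eq_zero, sm_comp]
      exact hc.symm)
    have h2 := sm_mem_pw I (cokernel.π g) _ h1
    rwa [sm_map_sub, ← sm_comp, cokernel.condition, sm_zero, sub_zero] at h2

omit [X.Over (Spec (CommRingCat.of k))] [IsProper (X ↘ Spec (CommRingCat.of k))] in
theorem support_pow_one (I : X.IdealSheafData) : ((I ^ (0 + 1)).support : Set X) = (I.support : Set X) :=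
  congrArg SetLike.coe (Scheme.IdealSheafData.support_pow_succ I 0)

/-- `Leff` along a complete intersection in a regular projective scheme. -/
theorem leffCond [IsIntegral X] [IsClosedImmersion ι] (hL : CohB1.IsAmple (T ι 1))
    (hreg : ∀ x : X, IsRegularLocalRing (X.presheaf.stalk x)) {n : ℕ} (hdim : topologicalKrullDim X = n)
    (hr : r + 2 ≤ n) (ha : ∀ j, 1 ≤ a j) (G : ∀ j, LefPen.Form N k (a j))
    (hY : topologicalKrullDim ((((LefPen.ciIdeal G).comap ι).support : Set X)) = ((n - r : ℕ) : WithBot ℕ∞)) :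
    LefX.LeffCond X ((LefPen.ciIdeal G).comap ι) := by
  let f := X ↘ Spec (CommRingCat.of k)
  haveI : IsLocallyNoetherian X := LocallyOfFiniteType.isLocallyNoetherian f
  haveI : CompactSpace X := QuasiCompact.compactSpace_of_compactSpace f
  haveI : IsNoetherian X := {}
  set I := (LefPen.ciIdeal G).comap ι with hIdef
  have hdep : ∀ (x : X) (j : ℕ), (j : WithBot ℕ∞) ≤ ringKrullDim (X.presheaf.stalk x) →
      (j : ℕ∞) ≤ LocCoh.depth (X.presheaf.stalk x) (X.presheaf.stalk x) := fun x j h => by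
    haveI := hreg x
    exact Groth.L18.LocPic.le_depth_of_le_dim (R := X.presheaf.stalk x) [] (by simp)
      (RingTheory.Sequence.IsWeaklyRegular.nil _ _) (RingHom.id _) Function.surjective_id
      (by rw [Ideal.ofList_nil]; exact (RingHom.injective_iff_ker_eq_bot _).1 fun _ _ h => h) (k := j) h
  have hE : Eqs ι G I := fun x => by
    obtain ⟨e, c, he, hc, hI⟩ := exists_frames ι G x
    refine ⟨e, c, he, hc, hI, ?_⟩
    by_cases hx : x ∈ (I.support : Set X)
    · rw [← I.range_subschemeι] at hx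
      obtain ⟨z, rfl⟩ := hx
      exact Or.inl (regular_at k hdim (by omega) I hY hreg z c hI).1
    · right
      by_contra h
      exact hx ((Groth.L22.DivSub.mem_support_iff I x).2 h)
  have hd : ∀ z : ↥(I ^ (0 + 1)).subscheme, IsClosed ({z} : Set ↥(I ^ (0 + 1)).subscheme) →
      (2 : ℕ∞) ≤ LocCoh.depth ((I ^ (0 + 1)).subscheme.presheaf.stalk z) ((I ^ (0 + 1)).subscheme.presheaf.stalk z) := by
    intro z hz
    obtain ⟨e, c, he, hc, hI⟩ := exists_frames ι G ((I ^ (0 + 1)).subschemeι z)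
    refine (regular_at k hdim (by omega) (I ^ (0 + 1)) (by rw [support_pow_one]; exact hY) hreg z c ?_).2 hz 2 (by omega)
    exact (Groth.L20.Infinitesimal.sI_pow I (0 + 1) _).trans ((pow_one _).trans hI)
  obtain ⟨D, hD, hsupp'⟩ := exists_good_divisors G ha hL
  have hd1 : ∀ x : X, IsClosed ({x} : Set X) →
      ((r + 1 : ℕ) : ℕ∞) ≤ LocCoh.depth (X.presheaf.stalk x) (X.presheaf.stalk x) := fun x hx => by
    obtain ⟨b, hb, hn⟩ := Groth.L13.LefInter.dim_stalk_add_cdim k hdim x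
    rw [Groth.L13.LefInter.cdim_eq_zero_of_isClosed k hx, zero_add] at hn
    refine hdep x (r + 1) ?_
    rw [hb]
    exact_mod_cast (show r + 1 ≤ b by omega)
  refine ⟨Groth.L13.LefInter.lefCond_of_good k hL r D hD hd1 (fun x hx => ?_) I hsupp', fun 𝔐 h𝔐 => ?_⟩
  · obtain ⟨b, hb, hn⟩ := Groth.L13.LefInter.dim_stalk_add_cdim k hdim x
    refine hdep x 2 ?_
    rw [hb]
    exact_mod_cast (show 2 ≤ b by omega)
  have hft : ∀ J : X.IdealSheafData, BlowUp.IsFiniteTypeIdeal J := fun J V => by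
    haveI : IsNoetherianRing Γ(X, V.1) := IsLocallyNoetherian.component_noetherian V
    exact IsNoetherian.noetherian _
  have hsupp : (I.support : Set X) = ((supI r D).support : Set X) := hsupp'.trans (support_supI r D).symm
  have hcof : ∀ J J' : X.IdealSheafData, (J.support : Set X) = (J'.support : Set X) →
      ∀ a : ℕ, ∃ b : ℕ, J ^ b ≤ J' ^ a := fun J J' h a => by
    obtain ⟨m, hm⟩ := Groth.L20.StrictSep.exists_pow_le (hft J) (B := J') h.ge
    refine ⟨(m + 1) * a, ?_⟩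
    intro V
    have h' := hm V
    simp only [Scheme.IdealSheafData.ideal_pow, Pi.pow_apply] at h' ⊢
    rw [pow_mul]
    exact Ideal.pow_right_mono h' a
  obtain ⟨F, hF, ⟨e⟩⟩ := exists_algebraization hE hL hd (fun P hP => homToFormalBijective_of_pz hL I
    (fun La hLa _ q hq => (pz_supI k f hLa (r + 1) hd1 r D hD q (by omega)).of_cofinal
      (hcof _ _ hsupp.symm) (hcof _ _ hsupp)) hP) 𝔐 h𝔐
  have hl : ∀ m, FlatMod.IsFinLocFree ((Scheme.Modules.pullback (FSch.completionToX X I m)).obj F) := fun m =>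
    Groth.L29.LocFree.of_iso
      ({ hom := e.inv.app m, inv := e.hom.app m
         hom_inv_id := congrFun (congrArg FSch.ModSys.Hom.app e.inv_hom_id) m
         inv_hom_id := congrFun (congrArg FSch.ModSys.Hom.app e.hom_inv_id) m } :
        𝔐.F m ≅ (Scheme.Modules.pullback (FSch.completionToX X I m)).obj F) (h𝔐 m)
  obtain ⟨U, hU, hEU⟩ := Groth.L18.FreeNearLevels.exists_open I hF hl
  obtain ⟨c⟩ := Groth.L18.FreeNearLevels.nonempty_complMod_push I U hU F
  exact ⟨U, F.restrict U.ι, hU, hEU, ⟨eqToIso (Groth.L18.ModSysAlgz.completionMod_eq I _) ≪≫ c.symm ≪≫ e⟩⟩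

end Groth.L13.LeffCI
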