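import Groth.Agent.L13.LeffCI.Mu
import Groth.Agent.L29.Formal.GradedPieces
import Mathlib.RingTheory.TensorProduct.Finite

/-!
# Finitely many classes generate the first cohomology of the graded pieces
-/

set_option autoImplicit false
set_option linter.style.haveILetI false
set_option linter.unusedSectionVars false
set_option backward.isDefEq.respectTransparency false
set_option backward.isDefEq.respectTransparency.types false
universe u

open CategoryTheory CategoryTheory.Limits AlgebraicGeometry Opposite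
open scoped TensorProduct

noncomputable section

namespace Groth.L13.LeffCI

open Groth.L16.CohLinear (hmap hmap_comp hmap_id overLin)
open Groth.L16.Existence (Sn)

variable {k : Type u} [Field k] {N : ℕ} {X : Scheme.{u}} [X.Over (Spec (CommRingCat.of k))]
  {ι : X ⟶ CohB1.ProjSpace N k} {r : ℕ} {a : Fin r → ℕ} {G : ∀ j, LefPen.Form N k (a j)} {I : X.IdealSheafData}
  {𝔗 : PSys I}

variable (ι 𝔗) in
/-- First cohomology of the twists of the bottom level in a band of weights. -/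
abbrev Band (w₀ w₁ : ℤ) : Type u := ∀ w : Finset.Icc w₀ w₁, Coh.HH X (Lv ι 𝔗 w.1 0) 1

variable (ι 𝔗) in
/-- The component of a weight. -/
def pr (w₀ w₁ w : ℤ) : Band ι 𝔗 w₀ w₁ →ₗ[k] Coh.HH X (Lv ι 𝔗 w 0) 1 :=
  if h : w ∈ Finset.Icc w₀ w₁ then LinearMap.proj (⟨w, h⟩ : Finset.Icc w₀ w₁) else 0

variable (ι 𝔗) in
/-- The classes of a weight. -/
def inj (w₀ w₁ w : ℤ) (y : Coh.HH X (Lv ι 𝔗 w 0) 1) : Band ι 𝔗 w₀ w₁ :=
  fun v => if h : v.1 = w then h ▸ y else 0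

theorem pr_inj_self {w₀ w₁ : ℤ} (hvan : ∀ w ∉ Finset.Icc w₀ w₁, Subsingleton (Coh.HH X (Lv ι 𝔗 w 0) 1)) (w : ℤ)
    (y : Coh.HH X (Lv ι 𝔗 w 0) 1) : pr ι 𝔗 w₀ w₁ w (inj ι 𝔗 w₀ w₁ w y) = y := by
  by_cases h : w ∈ Finset.Icc w₀ w₁
  · rw [pr, dif_pos h, LinearMap.proj_apply, inj, dif_pos rfl]
  · haveI := hvan w h
    exact Subsingleton.elim _ _

theorem pr_inj_ne {w₀ w₁ v w : ℤ} (hne : v ≠ w) (y : Coh.HH X (Lv ι 𝔗 w 0) 1) :
    pr ι 𝔗 w₀ w₁ v (inj ι 𝔗 w₀ w₁ w y) = 0 := by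
  by_cases h : v ∈ Finset.Icc w₀ w₁
  · rw [pr, dif_pos h, LinearMap.proj_apply, inj, dif_neg hne]
  · rw [pr, dif_neg h, LinearMap.zero_apply]

variable (hE : Eqs ι G I) (w₀ w₁ : ℤ)

/-- Cohomology of a monomial map. -/
def muH {n : ℕ} (e : Sn r n) {w u : ℤ} (h : u = w + (wdeg a e.1 : ℤ)) :
    Coh.HH X (Lv ι 𝔗 w 0) 1 →ₗ[k] Coh.HH X (Kn ι 𝔗 u n) 1 :=
  overLin k (hmap (muE hE e h) 1)

theorem muH_congr {n : ℕ} {e e' : Sn r n} (he : e = e') {w u : ℤ} (h : u = w + (wdeg a e.1 : ℤ))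
    (h' : u = w + (wdeg a e'.1 : ℤ)) : muH (𝔗 := 𝔗) hE e h = muH hE e' h' := by
  subst he; rfl

/-- Polynomials with classes of the bottom level as coefficients, evaluated in a graded piece. -/
def Φp (n : ℕ) (u : ℤ) : MvPolynomial (Fin r) k ⊗[k] Band ι 𝔗 w₀ w₁ →ₗ[k] Coh.HH X (Kn ι 𝔗 u n) 1 :=
  ∑ e : Sn r n, TensorProduct.lift (((LinearMap.lsmul k _).compl₂
    ((muH hE e (sub_add_cancel u _).symm).comp (pr ι 𝔗 w₀ w₁ _))).comp (MvPolynomial.lcoeff k e.1))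

variable (hvan : ∀ w ∉ Finset.Icc w₀ w₁, Subsingleton (Coh.HH X (Lv ι 𝔗 w 0) 1))

include hvan in
theorem Φp_monomial (n : ℕ) (u : ℤ) (d : Fin r →₀ ℕ) (x : k) (w : ℤ) (y : Coh.HH X (Lv ι 𝔗 w 0) 1) :
    (∀ (hd : d.degree = n + 1) (h : u = w + (wdeg a d : ℤ)),
      Φp hE w₀ w₁ n u (MvPolynomial.monomial d x ⊗ₜ[k] inj ι 𝔗 w₀ w₁ w y) = x • muH hE (⟨d, hd⟩ : Sn r n) h y) ∧
    (¬ (d.degree = n + 1 ∧ u = w + (wdeg a d : ℤ)) →
      Φp hE w₀ w₁ n u (MvPolynomial.monomial d x ⊗ₜ[k] inj ι 𝔗 w₀ w₁ w y) = 0) := by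
  classical
  have h1 : Φp hE w₀ w₁ n u (MvPolynomial.monomial d x ⊗ₜ[k] inj ι 𝔗 w₀ w₁ w y) =
      ∑ e : Sn r n, (if d = e.1 then x else 0) •
        muH hE e (sub_add_cancel u _).symm (pr ι 𝔗 w₀ w₁ _ (inj ι 𝔗 w₀ w₁ w y)) := by
    simp only [Φp, LinearMap.sum_apply, TensorProduct.lift.tmul, LinearMap.coe_comp, Function.comp_apply,
      LinearMap.compl₂_apply, LinearMap.lsmul_apply, MvPolynomial.lcoeff_apply, MvPolynomial.coeff_monomial]
  refine ⟨fun hd h => ?_, fun hn => ?_⟩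
  · rw [h1, Finset.sum_eq_single (⟨d, hd⟩ : Sn r n)
      (fun e _ he => by rw [if_neg (fun h' => he (Subtype.ext h'.symm)), zero_smul])
      (fun h' => absurd (Finset.mem_univ _) h'), if_pos rfl]
    congr 1
    obtain rfl : w = u - (wdeg a (⟨d, hd⟩ : Sn r n).1 : ℤ) := by show w = u - (wdeg a d : ℤ); omega
    rw [pr_inj_self hvan]
  · rw [h1]
    refine Finset.sum_eq_zero fun e _ => ?_
    by_cases he : d = e.1
    · rw [pr_inj_ne (fun hw => hn ⟨he ▸ e.2, by rw [he]; omega⟩), map_zero, smul_zero]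
    · rw [if_neg he, zero_smul]

/-- Homogeneous elements. -/
def homog (m : ℕ) (u : ℤ) (w : ∀ e : Sn r m, Coh.HH X (Lv ι 𝔗 (u - (wdeg a e.1 : ℤ)) 0) 1) :
    MvPolynomial (Fin r) k ⊗[k] Band ι 𝔗 w₀ w₁ :=
  ∑ e : Sn r m, MvPolynomial.monomial e.1 (1 : k) ⊗ₜ[k] inj ι 𝔗 w₀ w₁ _ (w e)

include hvan in
theorem Φp_homog (m : ℕ) (u : ℤ) (w : ∀ e : Sn r m, Coh.HH X (Lv ι 𝔗 (u - (wdeg a e.1 : ℤ)) 0) 1) :
    Φp hE w₀ w₁ m u (homog w₀ w₁ m u w) = ∑ e : Sn r m, muH hE e (sub_add_cancel u _).symm (w e) := by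
  rw [homog, map_sum]
  refine Finset.sum_congr rfl fun e _ => ?_
  rw [(Φp_monomial hE w₀ w₁ hvan m u e.1 1 _ (w e)).1 e.2 (sub_add_cancel u _).symm, one_smul]

include hvan in
theorem Φp_monomial_smul (m n : ℕ) (u' u : ℤ) (d : Fin r →₀ ℕ) (x : k)
    (w : ∀ e : Sn r m, Coh.HH X (Lv ι 𝔗 (u' - (wdeg a e.1 : ℤ)) 0) 1) :
    (∀ (hd : d.degree + m = n) (h : u = u' + (wdeg a d : ℤ)),
      Φp hE w₀ w₁ n u (MvPolynomial.monomial d x • homog w₀ w₁ m u' w) =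
        x • hmap (kmu hE d hd h) 1 (Φp hE w₀ w₁ m u' (homog w₀ w₁ m u' w))) ∧
    (¬ (d.degree + m = n ∧ u = u' + (wdeg a d : ℤ)) →
      Φp hE w₀ w₁ n u (MvPolynomial.monomial d x • homog w₀ w₁ m u' w) = 0) := by
  classical
  have h1 : MvPolynomial.monomial d x • homog w₀ w₁ m u' w =
      ∑ e : Sn r m, MvPolynomial.monomial (e.1 + d) x ⊗ₜ[k] inj ι 𝔗 w₀ w₁ _ (w e) := by
    rw [homog, Finset.smul_sum]
    refine Finset.sum_congr rfl fun e _ => ?_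
    rw [TensorProduct.smul_tmul', smul_eq_mul, MvPolynomial.monomial_mul, mul_one, add_comm d e.1]
  refine ⟨fun hd h => ?_, fun hn => ?_⟩
  · rw [h1, map_sum, Φp_homog hE w₀ w₁ hvan, map_sum, Finset.smul_sum]
    refine Finset.sum_congr rfl fun e _ => ?_
    have hde : (e.1 + d).degree = n + 1 := by rw [map_add, e.2]; omega
    rw [(Φp_monomial hE w₀ w₁ hvan n u (e.1 + d) x _ (w e)).1 hde (by rw [wdeg_add, Nat.cast_add]; omega)]
    congr 1
    show hmap _ 1 (w e) = hmap _ 1 (hmap _ 1 (w e))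
    rw [← hmap_comp, muE_kmu hE d hd e ⟨e.1 + d, hde⟩ rfl]
  · rw [h1, map_sum]
    refine Finset.sum_eq_zero fun e _ => (Φp_monomial hE w₀ w₁ hvan n u _ x _ (w e)).2 fun h => hn ?_
    obtain ⟨h', h''⟩ := h
    rw [map_add, e.2] at h'
    rw [wdeg_add, Nat.cast_add] at h''
    omega

include hE hvan in
theorem exists_homog (n : ℕ) (u : ℤ) (y : Coh.HH X (Kn ι 𝔗 u n) 1) :
    ∃ w, Φp hE w₀ w₁ n u (homog (a := a) w₀ w₁ n u w) = y := by
  obtain ⟨σ, hσ⟩ := split (𝔗 := 𝔗) hE u n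
  refine ⟨fun e => hmap (σ e) 1 y, ?_⟩
  rw [Φp_homog hE w₀ w₁ hvan]
  have h : ∀ e : Sn r n, muH hE e (sub_add_cancel u _).symm (hmap (σ e) 1 y) =
      hmap (σ e ≫ muE hE e (sub_add_cancel u _).symm) 1 y := fun e => (hmap_comp _ _ 1 y).symm
  rw [Finset.sum_congr rfl fun e _ => h e]
  refine Eq.trans ?_ (hmap_id 1 y)
  rw [← hσ, Groth.L29.Graded.hmap_sum]

include hE hvan in
/-- An invariant predicate on the graded pieces passes from finitely many degrees to all. -/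
theorem exists_bound [∀ w, Module.Finite k (Coh.HH X (Lv ι 𝔗 w 0) 1)]
    (P : ∀ m u, Coh.HH X (Kn ι 𝔗 u m) 1 → Prop) :
    ∃ c : ℕ, ∀ (n : ℕ) (u : ℤ) (R : Submodule k (Coh.HH X (Kn ι 𝔗 u n) 1)),
      (∀ m ≤ c, ∀ u' z, P m u' z → ∀ (d : Fin r →₀ ℕ) (hd : d.degree + m = n) (h : u = u' + (wdeg a d : ℤ)),
        hmap (kmu hE d hd h) 1 z ∈ R) →
      ∀ z, P n u z → z ∈ R := by
  classical
  let S : Set (MvPolynomial (Fin r) k ⊗[k] Band ι 𝔗 w₀ w₁) :=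
    {t | ∃ m u w, P m u (Φp hE w₀ w₁ m u (homog (a := a) w₀ w₁ m u w)) ∧ homog (a := a) w₀ w₁ m u w = t}
  haveI : IsNoetherian (MvPolynomial (Fin r) k) (MvPolynomial (Fin r) k ⊗[k] Band ι 𝔗 w₀ w₁) :=
    isNoetherian_of_isNoetherianRing_of_finite (MvPolynomial (Fin r) k) _
  obtain ⟨s, hs, hspan⟩ := (Submodule.fg_span_iff_fg_span_finset_subset S).1
    (IsNoetherian.noetherian (R := MvPolynomial (Fin r) k) _)
  choose m u₀ w hw hm using fun t : s => hs t.2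
  refine ⟨Finset.univ.sup m, fun n u R hR z hz => ?_⟩
  obtain ⟨v, rfl⟩ := exists_homog hE w₀ w₁ hvan n u z
  suffices h : ∀ t ∈ Submodule.span (MvPolynomial (Fin r) k) (S : Set _), ∀ b : MvPolynomial (Fin r) k,
      Φp hE w₀ w₁ n u (b • t) ∈ R by
    simpa using h _ (Submodule.subset_span ⟨n, u, v, hz, rfl⟩) 1
  intro t ht
  rw [hspan] at ht
  induction ht using Submodule.span_induction with
  | mem t ht =>
    intro b
    rw [show t = homog w₀ w₁ _ _ (w ⟨t, ht⟩) from (hm ⟨t, ht⟩).symm]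
    induction b using MvPolynomial.induction_on' with
    | monomial d x =>
      by_cases hd : d.degree + m ⟨t, ht⟩ = n ∧ u = u₀ ⟨t, ht⟩ + (wdeg a d : ℤ)
      · rw [(Φp_monomial_smul hE w₀ w₁ hvan _ n _ u d x _).1 hd.1 hd.2]
        exact R.smul_mem x (hR _ (Finset.le_sup (Finset.mem_univ _)) _ _ (hw _) d hd.1 hd.2)
      · rw [(Φp_monomial_smul hE w₀ w₁ hvan _ n _ u d x _).2 hd]
        exact R.zero_mem
    | add p q hp hq => rw [add_smul, map_add]; exact R.add_mem hp hq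
  | zero => intro b; rw [smul_zero, map_zero]; exact R.zero_mem
  | add p q _ _ hp hq => intro b; rw [smul_add, map_add]; exact R.add_mem (hp b) (hq b)
  | smul q p _ hp => intro b; rw [smul_smul]; exact hp _

end Groth.L13.LeffCI
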