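import Groth.Agent.L13.LeffCI.Vanish
import Groth.Agent.L13.AlgzSec.Cover

/-!
# Systems of bundles along a complete intersection are covered by sums of negative twists
-/

set_option autoImplicit false
set_option linter.style.haveILetI false
set_option linter.unusedSectionVars false
set_option backward.isDefEq.respectTransparency false
set_option backward.isDefEq.respectTransparency.types false
universe u

open CategoryTheory CategoryTheory.Limits AlgebraicGeometry Opposite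

noncomputable section

namespace Groth.L13.LeffCI

open Groth.L00.Tensor (tensorMap tensorIso tensorComm tensorAssoc tensorUnitRight tensorLeftF tensorRightF
  tensorFlipIso)
open Groth.L16.CohLinear (hmap hmap_comp)
open Groth.L13.AlgzSec (toHom toHom_comp toHom_surjective)

variable {k : Type u} [Field k] {N : ℕ} {X : Scheme.{u}} [X.Over (Spec (CommRingCat.of k))]
  [IsProper (X ↘ Spec (CommRingCat.of k))] {ι : X ⟶ CohB1.ProjSpace N k} {r : ℕ} {a : Fin r → ℕ}
  {G : ∀ j, LefPen.Form N k (a j)} {I : X.IdealSheafData}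

/-- The cover of a system. -/
theorem exists_cover (hE : Eqs ι G I) (hL : CohB1.IsAmple (T ι 1))
    (hd : ∀ z : ↥(I ^ (0 + 1)).subscheme, IsClosed ({z} : Set ↥(I ^ (0 + 1)).subscheme) →
      (2 : ℕ∞) ≤ LocCoh.depth ((I ^ (0 + 1)).subscheme.presheaf.stalk z) ((I ^ (0 + 1)).subscheme.presheaf.stalk z))
    (𝔗 : PSys I) :
    ∃ (s : ℕ) (m : ℕ) (ψ : ∀ n, CohB1.tensorMod (FlatMod.freeMod X s) (T ι (-(m : ℤ))) ⟶ 𝔗.G n),
      (∀ n, ψ (n + 1) ≫ 𝔗.tr n = ψ n) ∧ ∀ n, Epi (ψ n) := by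
  classical
  let f := X ↘ Spec (CommRingCat.of k)
  haveI : IsLocallyNoetherian X := LocallyOfFiniteType.isLocallyNoetherian f
  haveI : CompactSpace X := QuasiCompact.compactSpace_of_compactSpace f
  haveI : IsNoetherian X := {}
  obtain ⟨w₀, w₁, hvan⟩ := exists_band (ι := ι) 𝔗 hL hd
  haveI := fun w => finite_Lv (k := k) (ι := ι) 𝔗 w 1
  obtain ⟨U₀, hU₀⟩ := exists_compatible (𝔗 := 𝔗) hE w₀ w₁ hvan
  obtain ⟨n₀, hn₀⟩ := Groth.L18.Ample.exists_forall_isGloballyGenerated hL (𝔗.G 0) (𝔗.coh 0)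
  let m := n₀ + U₀.toNat
  obtain ⟨ep⟩ := nonempty_T_pow ι m
  obtain ⟨eV⟩ := nonempty_T_inv ι (m : ℤ)
  let W := T ι (m : ℤ)
  let E := tensorLeftF W
  haveI : (tensorRightF W).IsEquivalence := Groth.L22.PDual.isEquivalence_tensorRightF eV
  haveI : E.IsEquivalence := Functor.isEquivalence_of_iso (tensorFlipIso W)
  let c₀ : CohB1.tensorMod (𝔗.G 0) (CohB1.tensorPow (T ι 1) m) ≅ E.obj (𝔗.G 0) :=
    tensorIso (Iso.refl _) ep ≪≫ tensorComm _ _
  obtain ⟨σ, g₀, hg₀⟩ := hn₀ m (by omega)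
  haveI := hg₀
  obtain ⟨s, g', hg'⟩ := Groth.L16.NegPow.exists_finite_epi
    (Groth.L16.CohSupport.isCoh_of_iso c₀ (Groth.L18.LefTower.isCoh_twist hL (𝔗.coh 0) m)) (g₀ ≫ c₀.hom)
  choose y hy using fun j : Fin s =>
    toHom_surjective (Sigma.ι (fun _ : Fin s => Coh.structureModule X) j ≫ g')
  choose z hz₀ hz using fun j => hU₀ (m : ℤ) (by omega) (y j)
  let F : ∀ n, FlatMod.freeMod X s ⟶ E.obj (𝔗.G n) := fun n => Sigma.desc fun j => toHom (z j n)
  have hF : ∀ n, F (n + 1) ≫ E.map (𝔗.tr n) = F n := fun n => Sigma.hom_ext _ _ fun j => by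
    simp only [F, Sigma.ι_desc_assoc, Sigma.ι_desc, toHom_comp]
    exact congrArg toHom (hz j n)
  have hF₀ : F 0 = g' := Sigma.hom_ext _ _ fun j => by simp only [F, Sigma.ι_desc, hz₀, hy]
  let e : E.obj (CohB1.tensorMod (FlatMod.freeMod X s) (T ι (-(m : ℤ)))) ≅ FlatMod.freeMod X s :=
    tensorComm _ _ ≪≫ tensorAssoc _ _ _ ≪≫ tensorIso (Iso.refl _) (tensorComm _ _ ≪≫ eV) ≪≫ tensorUnitRight _
  let ψ : ∀ n, CohB1.tensorMod (FlatMod.freeMod X s) (T ι (-(m : ℤ))) ⟶ 𝔗.G n := fun n =>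
    E.preimage (e.hom ≫ F n)
  have hψ : ∀ n, ψ (n + 1) ≫ 𝔗.tr n = ψ n := fun n => E.map_injective (by
    rw [Functor.map_comp, Functor.map_preimage, Functor.map_preimage, Category.assoc, hF])
  haveI : Epi (ψ 0) := by
    refine E.epi_of_epi_map ?_
    rw [Functor.map_preimage, hF₀]
    haveI := hg'
    exact epi_comp _ _
  exact ⟨s, m, ψ, hψ, 𝔗.epi_of_epi_zero ψ hψ⟩

end Groth.L13.LeffCI
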