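import Groth.Agent.L13.LeffCI.Twists
import Groth.Agent.L22.Reg.Pn
import Groth.Agent.L29.DCoh.PullTensor
import Groth.Agent.L16.Existence.Lemmas
import Groth.Agent.L18.LefTower

/-!
# Monomials in the forms, twists as powers
-/

set_option autoImplicit false
set_option linter.style.haveILetI false
set_option linter.unusedSectionVars false
set_option backward.isDefEq.respectTransparency false
set_option backward.isDefEq.respectTransparency.types false
universe u

open CategoryTheory CategoryTheory.Limits AlgebraicGeometry TopologicalSpace Opposite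

noncomputable section

namespace Groth.L13.LeffCI

open Groth.L22.Reg (sm sm_comp sm_id)
open Groth.L18.LefTower (sm_smul)
open Groth.L16.Existence (aE aE_add aE_single)
open Groth.L00.Tensor (tensorIso tensorComm tensorUnitLeft tensorUnitRight)

section Gen

variable {R A : Type u} [CommRing R] [CommRing A] [Algebra R A] {𝒜 : ℕ → Submodule R A} [GradedAlgebra 𝒜]

/-- The product of two homogeneous elements. -/
def fmul {a b : ℕ} (F : 𝒜 a) (G : 𝒜 b) : 𝒜 (a + b) := ⟨F.1 * G.1, SetLike.mul_mem_graded F.2 G.2⟩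

theorem fmG_mul {a b c : ℕ} (F : 𝒜 a) (G : 𝒜 b) (H : 𝒜 c) (hH : H.1 = F.1 * G.1) {u v w : ℤ} (h₁ : v = u + a)
    (h₂ : w = v + b) (h₃ : w = u + c) : fmG F h₁ ≫ fmG G h₂ = fmG H h₃ :=
  ext_valG fun _ f x => (valG_comp F G h₁ h₂ f x).trans (((mul_assoc _ _ _).trans
    (congrArg (valG f x * ·) ((Localization.mk_mul _ _ _ _).trans (by rw [hH]; congr 1; exact Subtype.ext (mul_one 1))))).trans
      (valG_fmG H h₃ f x).symm)

theorem fmG_one {a : ℕ} (F : 𝒜 a) (hF : F.1 = 1) {u : ℤ} (h : u = u + a) : fmG F h = 𝟙 _ :=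
  ext_valG fun _ f x => (valG_fmG F h f x).trans (by
    rw [show Localization.mk F.1 (⟨1, Groth.L16.ProjTwist.one_notMem _ x.1⟩ : x.1.asHomogeneousIdeal.toIdeal.primeCompl) = 1 by
      rw [hF]; exact Localization.mk_one, mul_one]
    rfl)

end Gen

variable {k : Type u} [Field k] {N : ℕ}

local notation "PG" => CohB1.polyGrading N k

variable {r : ℕ} {a : Fin r → ℕ} (G : ∀ j, LefPen.Form N k (a j))

/-- The weight of a multi-index. -/
def wdeg (a : Fin r → ℕ) (e : Fin r →₀ ℕ) : ℕ := ∑ j, e j * a j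

theorem wdeg_add (e e' : Fin r →₀ ℕ) : wdeg a (e + e') = wdeg a e + wdeg a e' := by
  simp [wdeg, add_mul, Finset.sum_add_distrib]

theorem wdeg_zero : wdeg a 0 = 0 := by simp [wdeg]

theorem wdeg_single (j : Fin r) (m : ℕ) : wdeg a (Finsupp.single j m) = m * a j := by
  simp [wdeg, Finsupp.single_apply]

theorem degree_le_wdeg (ha : ∀ j, 1 ≤ a j) (e : Fin r →₀ ℕ) : e.degree ≤ wdeg a e := by
  rw [Finsupp.degree_eq_sum]
  exact Finset.sum_le_sum fun j _ => Nat.le_mul_of_pos_right _ (ha j)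

theorem wdeg_le {A : ℕ} (hA : ∀ j, a j ≤ A) (e : Fin r →₀ ℕ) : wdeg a e ≤ e.degree * A := by
  rw [Finsupp.degree_eq_sum, Finset.sum_mul]
  exact Finset.sum_le_sum fun j _ => Nat.mul_le_mul_left _ (hA j)

/-- A monomial in the forms. -/
def monF (e : Fin r →₀ ℕ) : LefPen.Form N k (wdeg a e) :=
  ⟨∏ j, (G j).1 ^ e j, SetLike.prod_mem_graded (A := PG) (fun j => e j * a j) (fun j => (G j).1 ^ e j)
    fun j _ => SetLike.pow_mem_graded (e j) (G j).2⟩

theorem monF_add (e e' : Fin r →₀ ℕ) : (monF G (e + e')).1 = (monF G e).1 * (monF G e').1 := by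
  show ∏ j, (G j).1 ^ (e + e') j = (∏ j, (G j).1 ^ e j) * ∏ j, (G j).1 ^ e' j
  rw [← Finset.prod_mul_distrib]
  exact Finset.prod_congr rfl fun j _ => by rw [Finsupp.add_apply, pow_add]

theorem monF_single (j : Fin r) : (monF G (Finsupp.single j 1)).1 = (G j).1 := by
  show ∏ i, (G i).1 ^ Finsupp.single j 1 i = _
  rw [Finset.prod_eq_single j (fun i _ hi => by simp [hi.symm]) (fun h => absurd (Finset.mem_univ j) h)]
  simp

theorem monF_zero : (monF G 0).1 = 1 := by
  show ∏ i, (G i).1 ^ (0 : Fin r →₀ ℕ) i = 1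
  simp

variable {X : Scheme.{u}} (ι : X ⟶ CohB1.ProjSpace N k)

theorem fX_mul {c d e : ℕ} (F : LefPen.Form N k c) (F' : LefPen.Form N k d) (H : LefPen.Form N k e)
    (hH : H.1 = F.1 * F'.1) {u v w : ℤ} (h₁ : v = u + c) (h₂ : w = v + d) (h₃ : w = u + e) :
    fX ι F h₁ ≫ fX ι F' h₂ = fX ι H h₃ := by
  rw [fX, fX, fX, ← Functor.map_comp]
  exact congrArg (Scheme.Modules.pullback ι).map (fmG_mul (𝒜 := PG) F F' H hH h₁ h₂ h₃)

theorem fX_one {c : ℕ} (F : LefPen.Form N k c) (hF : F.1 = 1) {u : ℤ} (h : u = u + c) : fX ι F h = 𝟙 _ := by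
  rw [fX, show fm F h = 𝟙 _ from fmG_one (𝒜 := PG) F hF h]
  exact (Scheme.Modules.pullback ι).map_id _

/-- The monomials on stalks. -/
theorem sm_monF {x : X} {e : ∀ w, (T ι w).presheaf.stalk x} {c : Fin r → X.presheaf.stalk x}
    (hc : ∀ (j : Fin r) (w v : ℤ) (h : v = w + (a j : ℤ)), sm x (fX ι (G j) h) (e w) = c j • e v) :
    ∀ (d : Fin r →₀ ℕ) (w v : ℤ) (h : v = w + (wdeg a d : ℤ)),
      sm x (fX ι (monF G d) h) (e w) = aE c d • e v := by
  intro d
  induction d using Finsupp.induction_linear with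
  | zero =>
    intro w v h
    obtain rfl : v = w := by rw [wdeg_zero] at h; simpa using h
    rw [fX_one ι (monF G 0) (monF_zero G) h, sm_id, show aE c (0 : Fin r →₀ ℕ) = 1 by simp [aE], one_smul]
  | add d d' hd hd' =>
    intro w v h
    rw [wdeg_add, Nat.cast_add] at h
    rw [← fX_mul ι (monF G d) (monF G d') (monF G (d + d')) (monF_add G d d') (rfl : w + (wdeg a d : ℤ) = _)
      (show v = _ by omega) (by rw [wdeg_add, Nat.cast_add]; omega), sm_comp, hd w _ rfl, sm_smul,
      hd' _ v (by omega), aE_add, mul_smul]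
  | single j m =>
    induction m with
    | zero =>
      intro w v h
      obtain rfl : v = w := by rw [wdeg_single, Nat.zero_mul] at h; simpa using h
      rw [fX_one ι (monF G (Finsupp.single j 0)) (by rw [Finsupp.single_zero]; exact monF_zero G) h, sm_id]
      simp [aE]
    | succ m ih =>
      intro w v h
      rw [wdeg_single] at h
      have e1 : (monF G (Finsupp.single j (m + 1))).1 = (monF G (Finsupp.single j m)).1 * (G j).1 := by
        rw [Finsupp.single_add, monF_add, monF_single]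
      rw [← fX_mul ι (monF G (Finsupp.single j m)) (G j) (monF G (Finsupp.single j (m + 1))) e1
        (rfl : w + (wdeg a (Finsupp.single j m) : ℤ) = _)
        (show v = _ by rw [wdeg_single]; push_cast at h ⊢; linarith) (by rw [wdeg_single]; exact h),
        sm_comp, ih w _ rfl, sm_smul, hc j _ v (by rw [wdeg_single]; push_cast at h ⊢; linarith), smul_smul,
        Finsupp.single_add, aE_add, aE_single]

theorem nonempty_T_add {u v w : ℤ} (h : u + v = w) : Nonempty (CohB1.tensorMod (T ι u) (T ι v) ≅ T ι w) :=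
  (Groth.L22.Reg.nonempty_O_add h).map fun e =>
    Groth.L29.DC.PullTensor.pullTensor ι _ _ ≪≫ (Scheme.Modules.pullback ι).mapIso e

theorem nonempty_T_zero : Nonempty (T ι 0 ≅ Coh.structureModule X) :=
  (Groth.L22.Reg.nonempty_O_zero N k).map fun e =>
    (Scheme.Modules.pullback ι).mapIso e ≪≫ Groth.L29.LocFree.pullbackUnitIso ι

theorem nonempty_T_pow : ∀ m : ℕ, Nonempty (CohB1.tensorPow (T ι 1) m ≅ T ι m)
  | 0 => (nonempty_T_zero ι).map fun e => e.symm
  | m + 1 => by
    obtain ⟨e⟩ := nonempty_T_pow m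
    obtain ⟨e'⟩ := nonempty_T_add ι (show (m : ℤ) + 1 = ((m + 1 : ℕ) : ℤ) by omega)
    exact ⟨tensorIso e (Iso.refl _) ≪≫ e'⟩

theorem nonempty_T_negPow : ∀ m : ℕ, Nonempty (CohB1.tensorPow (T ι (-1)) m ≅ T ι (-(m : ℤ)))
  | 0 => (nonempty_T_zero ι).map fun e => e.symm
  | m + 1 => by
    obtain ⟨e⟩ := nonempty_T_negPow m
    obtain ⟨e'⟩ := nonempty_T_add ι (show -(m : ℤ) + -1 = -((m + 1 : ℕ) : ℤ) by omega)
    exact ⟨tensorIso e (Iso.refl _) ≪≫ e'⟩

theorem nonempty_T_inv (w : ℤ) : Nonempty (CohB1.tensorMod (T ι w) (T ι (-w)) ≅ Coh.structureModule X) := by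
  obtain ⟨e⟩ := nonempty_T_add ι (add_neg_cancel w)
  obtain ⟨e'⟩ := nonempty_T_zero ι
  exact ⟨e ≪≫ e'⟩

end Groth.L13.LeffCI
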