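import Groth.Agent.L13.LeffCI.Bound
import Groth.Agent.L16.Rees.Consequences

/-!
# Sections of the bottom level of a high twist lift through all levels
-/

set_option autoImplicit false
set_option linter.style.haveILetI false
set_option linter.unusedSectionVars false
set_option backward.isDefEq.respectTransparency false
set_option backward.isDefEq.respectTransparency.types false
universe u

open CategoryTheory CategoryTheory.Limits AlgebraicGeometry Opposite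

noncomputable section

namespace Groth.L13.LeffCI

open Groth.L00.Tensor (tensorMap tensorMap_comp)
open Groth.L16.CohLinear (hmap hmap_comp hmap_id overLin delta exact_hmap_delta)
open Groth.L16.Existence (Sn)

variable {k : Type u} [Field k] {N : ℕ} {X : Scheme.{u}} [X.Over (Spec (CommRingCat.of k))]
  {ι : X ⟶ CohB1.ProjSpace N k} {r : ℕ} {a : Fin r → ℕ} {G : ∀ j, LefPen.Form N k (a j)} {I : X.IdealSheafData}
  {𝔗 : PSys I}

theorem hmap_zero_map {M M' : X.Modules} (p : ℕ) (x : Coh.HH X M p) : hmap (0 : M ⟶ M') p x = 0 := by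
  let φ : (M ⟶ M') →+ Coh.HH X M' p :=
    AddMonoidHom.mk' (fun g => hmap g p x) fun g h => Groth.L29.Graded.hmap_add p g h x
  exact map_zero φ

theorem hmap_zero_of_eq_zero {M M' M'' : X.Modules} (f : M ⟶ M') (g : M' ⟶ M'') (h : f ≫ g = 0) (p : ℕ)
    (x : Coh.HH X M p) : hmap g p (hmap f p x) = 0 := by
  rw [← hmap_comp, h, hmap_zero_map]

variable (ι 𝔗) in
/-- The sequence of a graded piece. -/
abbrev kses (u : ℤ) (n : ℕ) : ShortComplex X.Modules :=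
  ShortComplex.mk (kernel.ι (trT ι 𝔗 u n)) (trT ι 𝔗 u n) (kernel.condition _)

theorem kses_shortExact (hE : Eqs ι G I) (u : ℤ) (n : ℕ) : (kses ι 𝔗 u n).ShortExact :=
  { exact := ShortComplex.exact_of_f_is_kernel _ (kernelIsKernel _), epi_g := hE.epi_trT u n }

/-- The obstruction to lifting a section by one level. -/
def obs (hE : Eqs ι G I) (u : ℤ) (n : ℕ) : Coh.HH X (Lv ι 𝔗 u n) 0 →ₗ[k] Coh.HH X (Kn ι 𝔗 u n) 1 :=
  overLin k (delta (kses_shortExact hE u n) 0)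

theorem obs_natural (hE : Eqs ι G I) (d : Fin r →₀ ℕ) {m n : ℕ} (hd : d.degree + m = n) {w v : ℤ}
    (h : v = w + (wdeg a d : ℤ)) (z : Coh.HH X (Lv ι 𝔗 w m) 0) :
    obs hE v n (hmap (mu hE d hd h) 0 z) = hmap (kmu hE d hd h) 1 (obs hE w m z) :=
  Groth.L16.Rees.delta_naturality (kses_shortExact hE w m) (kses_shortExact hE v n)
    (ShortComplex.homMk (kmu hE d hd h) (mu hE d (by omega) h) (mu hE d hd h) (kmu_ι hE d hd h)
      (mu_trT hE d hd (by omega) h)) z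

variable (hE : Eqs ι G I) (w₀ w₁ : ℤ) (hvan : ∀ w ∉ Finset.Icc w₀ w₁, Subsingleton (Coh.HH X (Lv ι 𝔗 w 0) 1))
  [∀ w, Module.Finite k (Coh.HH X (Lv ι 𝔗 w 0) 1)]

include hE hvan in
/-- The corrections can be taken deep in the filtration. -/
theorem exists_stab :
    ∃ c : ℕ, ∀ (u : ℤ) (n p : ℕ) (hp : p ≤ n), p + 1 + c ≤ n → ∀ y,
      ∃ z, obs (𝔗 := 𝔗) hE u n z = obs hE u n y ∧ hmap (tauT ι 𝔗 u hp) 0 z = 0 := by
  obtain ⟨c, hc⟩ := exists_bound (𝔗 := 𝔗) hE w₀ w₁ hvan fun m u z => ∃ y, obs hE u m y = z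
  refine ⟨c, fun u n p hp hpn y => ?_⟩
  let Z : Submodule k (Coh.HH X (Lv ι 𝔗 u n) 0) := LinearMap.ker (overLin k (hmap (tauT ι 𝔗 u hp) 0))
  have hR : obs hE u n y ∈ Z.map (obs hE u n) := by
    refine hc n u _ (fun m hm u' z ⟨y', hy'⟩ d hd h => ?_) _ ⟨y, rfl⟩
    refine ⟨hmap (mu hE d hd h) 0 y', ?_, ?_⟩
    · exact hmap_zero_of_eq_zero _ _ (mu_tauT_eq_zero hE d hd hp (by omega) h) 0 y'
    · rw [obs_natural, hy']
  obtain ⟨z, hz, hzy⟩ := hR
  exact ⟨z, hzy, hz⟩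

include hE hvan in
theorem subsingleton_graded {A : ℕ} (hA : ∀ j, a j ≤ A) (u : ℤ) (n : ℕ) (hu : w₁ + ((n + 1) * A : ℕ) < u) :
    Subsingleton (Coh.HH X (Kn ι 𝔗 u n) 1) := by
  refine subsingleton_of_forall_eq 0 fun y => ?_
  obtain ⟨w, rfl⟩ := exists_homog hE w₀ w₁ hvan n u y
  rw [Φp_homog hE w₀ w₁ hvan]
  refine Finset.sum_eq_zero fun e _ => ?_
  have h : (u - (wdeg a e.1 : ℤ)) ∉ Finset.Icc w₀ w₁ := by
    have h1 : wdeg a e.1 ≤ (n + 1) * A := (wdeg_le hA e.1).trans_eq (by rw [e.2])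
    rw [Finset.mem_Icc]
    omega
  haveI := hvan _ h
  rw [Subsingleton.elim (w e) 0, map_zero]

include hE hvan in
/-- Sections of the bottom level lift. -/
theorem exists_compatible :
    ∃ U₀ : ℤ, ∀ u, U₀ ≤ u → ∀ s : Coh.HH X (Lv ι 𝔗 u 0) 0, ∃ y : ∀ n, Coh.HH X (Lv ι 𝔗 u n) 0,
      y 0 = s ∧ ∀ n, hmap (trT ι 𝔗 u n) 0 (y (n + 1)) = y n := by
  obtain ⟨c, hc⟩ := exists_stab (𝔗 := 𝔗) hE w₀ w₁ hvan
  let A := Finset.univ.sup a
  have hA : ∀ j, a j ≤ A := fun j => Finset.le_sup (Finset.mem_univ j)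
  refine ⟨w₁ + 1 + ((c + 2) * A : ℕ), fun u hu s => ?_⟩
  -- up to the level `c + 1` there is no obstruction
  have hlow : ∀ n, n ≤ c + 1 → ∃ y : Coh.HH X (Lv ι 𝔗 u n) 0, hmap (tauT ι 𝔗 u (Nat.zero_le n)) 0 y = s := by
    intro n hn
    induction n with
    | zero => exact ⟨s, by simp only [tauT, PSys.tau_self]; rw [show tensorMap (𝟙 (T ι u)) (𝟙 (𝔗.G 0)) = 𝟙 _ from (Groth.L00.Tensor.tensorLeftF (T ι u)).map_id _]; exact hmap_id 0 s⟩
    | succ n ih =>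
      obtain ⟨y, hy⟩ := ih (by omega)
      haveI := subsingleton_graded (𝔗 := 𝔗) hE w₀ w₁ hvan hA u n (by
        have : (n + 1) * A ≤ (c + 2) * A := Nat.mul_le_mul_right A (by omega)
        omega)
      obtain ⟨z, hz⟩ := (exact_hmap_delta (kses_shortExact (𝔗 := 𝔗) hE u n) 0 y).1 (Subsingleton.elim _ _)
      refine ⟨z, ?_⟩
      rw [← tauT_comp ι 𝔗 u (Nat.zero_le n) n.le_succ, hmap_comp, tauT_le_succ, ← hy]
      exact congrArg _ hz
  obtain ⟨y₀, hy₀⟩ := hlow (c + 1) le_rfl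
  -- higher up, successive corrections that fade out
  have hstep : ∀ (p : ℕ) (y : Coh.HH X (Lv ι 𝔗 u (p + (c + 1))) 0), ∃ y' : Coh.HH X (Lv ι 𝔗 u (p + 1 + (c + 1))) 0,
      hmap (tauT ι 𝔗 u (show p ≤ p + 1 + (c + 1) by omega)) 0 y' =
        hmap (tauT ι 𝔗 u (show p ≤ p + (c + 1) by omega)) 0 y := by
    intro p y
    obtain ⟨z, hz, hz0⟩ := hc u (p + (c + 1)) p (by omega) (by omega) y
    have h0 : delta (kses_shortExact (𝔗 := 𝔗) hE u (p + (c + 1))) 0 (y - z) = 0 := by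
      change obs hE u (p + (c + 1)) (y - z) = 0
      rw [map_sub, hz, sub_self]
    obtain ⟨y', hy'⟩ := (exact_hmap_delta (kses_shortExact (𝔗 := 𝔗) hE u (p + (c + 1))) 0 (y - z)).1 h0
    change hmap (trT ι 𝔗 u (p + (c + 1))) 0 y' = y - z at hy'
    have e : ∀ (q : ℕ) (hq : q = p + 1 + (c + 1)) (hq' : q = p + (c + 1) + 1) (y'' : Coh.HH X (Lv ι 𝔗 u q) 0),
        hmap (trT ι 𝔗 u (p + (c + 1))) 0 (hq' ▸ y'') = y - z →
        ∃ y' : Coh.HH X (Lv ι 𝔗 u (p + 1 + (c + 1))) 0,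
          hmap (tauT ι 𝔗 u (show p ≤ p + 1 + (c + 1) by omega)) 0 y' =
            hmap (tauT ι 𝔗 u (show p ≤ p + (c + 1) by omega)) 0 y := by
      intro q hq hq' y'' h''
      subst hq'
      refine ⟨hq ▸ y'', ?_⟩
      have h1 : hmap (tauT ι 𝔗 u (show p ≤ p + (c + 1) + 1 by omega)) 0 y'' =
          hmap (tauT ι 𝔗 u (show p ≤ p + (c + 1) by omega)) 0 y := by
        rw [← tauT_comp ι 𝔗 u (show p ≤ p + (c + 1) by omega) (Nat.le_succ _), hmap_comp, tauT_le_succ]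
        rw [show hmap (trT ι 𝔗 u (p + (c + 1))) 0 y'' = y - z from h'', map_sub, hz0, sub_zero]
      rw [← h1]
      have : ∀ (q' : ℕ) (hq : p + (c + 1) + 1 = q') (hle : p ≤ q'),
          hmap (tauT ι 𝔗 u hle) 0 (hq ▸ y'') = hmap (tauT ι 𝔗 u (show p ≤ p + (c + 1) + 1 by omega)) 0 y'' := by
        rintro _ rfl _; rfl
      exact this _ hq _
    exact e _ (by omega) rfl y' hy'
  choose nxt hnxt using hstep
  let y : ∀ p, Coh.HH X (Lv ι 𝔗 u (p + (c + 1))) 0 := fun p =>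
    Nat.rec (motive := fun p => Coh.HH X (Lv ι 𝔗 u (p + (c + 1))) 0)
      (cast (by rw [Nat.zero_add]) y₀) (fun p y => nxt p y) p
  refine ⟨fun p => hmap (tauT ι 𝔗 u (show p ≤ p + (c + 1) by omega)) 0 (y p), ?_, fun p => ?_⟩
  · have : ∀ (q : ℕ) (hq : c + 1 = q) (y' : Coh.HH X (Lv ι 𝔗 u q) 0),
        y' = cast (by rw [hq]) y₀ → hmap (tauT ι 𝔗 u (Nat.zero_le q)) 0 y' = s := by
      rintro _ rfl _ rfl; exact hy₀
    exact this _ (Nat.zero_add _).symm _ rfl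
  · show hmap (trT ι 𝔗 u p) 0 (hmap _ 0 (y (p + 1))) = hmap _ 0 (y p)
    rw [← tauT_le_succ, ← hmap_comp, tauT_comp]
    exact hnxt p (y p)

end Groth.L13.LeffCI
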