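import Groth.Agent.L13.LeffCI.Sys
import Groth.Agent.L13.LeffCI.Forms
import Groth.Agent.L16.Existence.Graded

/-!
# The graded pieces of the twists of a system
-/

set_option autoImplicit false
set_option linter.style.haveILetI false
set_option linter.unusedSectionVars false
set_option backward.isDefEq.respectTransparency false
set_option backward.isDefEq.respectTransparency.types false
universe u

open CategoryTheory CategoryTheory.Limits AlgebraicGeometry Opposite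

noncomputable section

namespace Groth.L13.LeffCI

open Groth.L00.Tensor (tensorMap tensorMap_comp)
open Groth.L22.Reg (sm sm_comp sm_id sm_map_sub sm_map_zero sm_zero sm_map_add)
open Groth.L18.LefTower (sm_smul surjective_sm injective_sm epi_of_sm mono_of_sm exists_kernel_preimage tensE
  tensE_natural)
open Groth.L20.SeeNormal (sI)
open Groth.L16.Existence (aE aE_mem Sn pow_le_span)

variable {k : Type u} [Field k] {N : ℕ} {X : Scheme.{u}} {ι : X ⟶ CohB1.ProjSpace N k}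
  {r : ℕ} {a : Fin r → ℕ}

variable (ι) in
/-- The forms cut the closed subscheme out, by a regular sequence along it. -/
def Eqs (G : ∀ j, LefPen.Form N k (a j)) (I : X.IdealSheafData) : Prop :=
  ∀ x : X, ∃ (e : ∀ w, (T ι w).presheaf.stalk x) (c : Fin r → X.presheaf.stalk x),
    (∀ w, Function.Bijective fun b : X.presheaf.stalk x => b • e w) ∧
    (∀ (j : Fin r) (w v : ℤ) (h : v = w + (a j : ℤ)), sm x (fX ι (G j) h) (e w) = c j • e v) ∧
    sI I x = Ideal.span (Set.range c) ∧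
    (RingTheory.Sequence.IsWeaklyRegular (X.presheaf.stalk x) (List.ofFn c) ∨ sI I x = ⊤)

variable {G : ∀ j, LefPen.Form N k (a j)} {I : X.IdealSheafData}

/-- The frames at a point. -/
theorem Eqs.exists_stalk (hE : Eqs ι G I) (x : X) :
    ∃ (c : Fin r → X.presheaf.stalk x) (φ : ∀ (w : ℤ) (M : X.Modules), (Groth.L00.Stk.F X x).obj M ≃ₗ[X.presheaf.stalk x]
      (Groth.L00.Stk.F X x).obj (CohB1.tensorMod (T ι w) M)),
      sI I x = Ideal.span (Set.range c) ∧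
      (RingTheory.Sequence.IsWeaklyRegular (X.presheaf.stalk x) (List.ofFn c) ∨ sI I x = ⊤) ∧
      (∀ (w : ℤ) {M M' : X.Modules} (g : M ⟶ M') v, sm x (tensorMap (𝟙 (T ι w)) g) (φ w M v) = φ w M' (sm x g v)) ∧
      ∀ (d : Fin r →₀ ℕ) (w v : ℤ) (h : v = w + (wdeg a d : ℤ)) {M M' : X.Modules} (g : M ⟶ M') y,
        sm x (tensorMap (fX ι (monF G d) h) g) (φ w M y) = φ v M' (aE c d • sm x g y) := by
  obtain ⟨e, c, he, hc, hI, hreg⟩ := hE x
  refine ⟨c, fun w M => tensE x (T ι w) (e w) (he w) M, hI, hreg, fun w M M' g v => ?_, fun d w v h M M' g y => ?_⟩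
  · exact (tensE_natural x (𝟙 (T ι w)) (e w) (he w) (e w) (he w) 1 ((sm_id x _).trans (one_smul _ _).symm) g v).trans
      (by rw [one_smul])
  · exact tensE_natural x _ (e w) (he w) (e v) (he v) _ (sm_monF G ι hc d w v h) g y

variable (ι) (𝔗 : PSys I)

/-- The twists of the levels. -/
abbrev Lv (u : ℤ) (n : ℕ) : X.Modules := CohB1.tensorMod (T ι u) (𝔗.G n)

/-- The transitions of the twists. -/
abbrev tauT (u : ℤ) {m n : ℕ} (h : m ≤ n) : Lv ι 𝔗 u n ⟶ Lv ι 𝔗 u m := tensorMap (𝟙 (T ι u)) (𝔗.tau h)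

/-- The one-step transitions of the twists. -/
abbrev trT (u : ℤ) (n : ℕ) : Lv ι 𝔗 u (n + 1) ⟶ Lv ι 𝔗 u n := tensorMap (𝟙 (T ι u)) (𝔗.tr n)

theorem tauT_comp (u : ℤ) {l m n : ℕ} (h : l ≤ m) (h' : m ≤ n) :
    tauT ι 𝔗 u h' ≫ tauT ι 𝔗 u h = tauT ι 𝔗 u (h.trans h') := by
  rw [← tensorMap_comp, Category.comp_id, PSys.tau_comp]

theorem tauT_le_succ (u : ℤ) (n : ℕ) : tauT ι 𝔗 u n.le_succ = trT ι 𝔗 u n := by
  simp only [tauT, PSys.tau_le_succ]

variable {ι} {𝔗}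

theorem Eqs.epi_tauT (hE : Eqs ι G I) (u : ℤ) {m n : ℕ} (h : m ≤ n) : Epi (tauT ι 𝔗 u h) :=
  epi_of_sm _ fun x z => by
    obtain ⟨c, φ, -, -, hφ, -⟩ := hE.exists_stalk x
    obtain ⟨y, rfl⟩ := (φ u _).surjective z
    obtain ⟨y', rfl⟩ := surjective_sm (𝔗.tau h) x y
    exact ⟨φ u _ y', hφ u _ y'⟩

theorem Eqs.epi_trT (hE : Eqs ι G I) (u : ℤ) (n : ℕ) : Epi (trT ι 𝔗 u n) :=
  tauT_le_succ ι 𝔗 u n ▸ hE.epi_tauT u n.le_succ

theorem Eqs.exists_mu (hE : Eqs ι G I) {d : Fin r →₀ ℕ} {m n : ℕ} (hd : d.degree + m = n) {w v : ℤ}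
    (h : v = w + (wdeg a d : ℤ)) :
    ∃ μ : Lv ι 𝔗 w m ⟶ Lv ι 𝔗 v n,
      tauT ι 𝔗 w (show m ≤ n by omega) ≫ μ = tensorMap (fX ι (monF G d) h) (𝟙 (𝔗.G n)) := by
  haveI := hE.epi_tauT (𝔗 := 𝔗) w (show m ≤ n by omega)
  have hk : kernel.ι (tauT ι 𝔗 w (show m ≤ n by omega)) ≫ tensorMap (fX ι (monF G d) h) (𝟙 (𝔗.G n)) = 0 :=
    Groth.L21.Mod.hom_ext_stalk fun x => by
      ext z
      show sm x (kernel.ι _ ≫ _) z = sm x (0 : kernel _ ⟶ Lv ι 𝔗 v n) z
      obtain ⟨c, φ, hI, -, hφ, hφ'⟩ := hE.exists_stalk x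
      rw [sm_comp, sm_zero]
      obtain ⟨y, hy⟩ := (φ w _).surjective (sm x (kernel.ι _) z)
      have h1 : sm x (tauT ι 𝔗 w (show m ≤ n by omega)) (φ w _ y) = 0 := by
        rw [hy, ← sm_comp, kernel.condition, sm_zero]
      rw [hφ, LinearEquiv.map_eq_zero_iff] at h1
      have h2 := 𝔗.tau_ker _ x y h1
      rw [← hy, hφ', sm_id, LinearEquiv.map_eq_zero_iff]
      refine 𝔗.eq_zero_of_mem n x ?_
      have h3 := Submodule.smul_mem_smul (aE_mem c (I := sI I x) (fun i => hI ▸ Ideal.subset_span ⟨i, rfl⟩) d) h2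
      rw [← Submodule.mul_smul, ← pow_add] at h3
      exact Submodule.smul_mono_left (Ideal.pow_le_pow_right (by omega)) h3
  exact ⟨Abelian.epiDesc _ _ hk, Abelian.comp_epiDesc _ _ _⟩

/-- Multiplication by a monomial between the twists of the levels. -/
def mu (hE : Eqs ι G I) (d : Fin r →₀ ℕ) {m n : ℕ} (hd : d.degree + m = n) {w v : ℤ}
    (h : v = w + (wdeg a d : ℤ)) : Lv ι 𝔗 w m ⟶ Lv ι 𝔗 v n :=
  (hE.exists_mu hd h).choose

theorem tau_mu (hE : Eqs ι G I) (d : Fin r →₀ ℕ) {m n : ℕ} (hd : d.degree + m = n) {w v : ℤ}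
    (h : v = w + (wdeg a d : ℤ)) :
    tauT ι 𝔗 w (show m ≤ n by omega) ≫ mu hE d hd h = tensorMap (fX ι (monF G d) h) (𝟙 (𝔗.G n)) :=
  (hE.exists_mu hd h).choose_spec

theorem mu_comp (hE : Eqs ι G I) (d d' : Fin r →₀ ℕ) {l m n : ℕ} (hd : d.degree + l = m) (hd' : d'.degree + m = n)
    (hdd : (d + d').degree + l = n) {u v w : ℤ}
    (h : v = u + (wdeg a d : ℤ)) (h' : w = v + (wdeg a d' : ℤ)) (hh : w = u + (wdeg a (d + d') : ℤ)) :
    mu (𝔗 := 𝔗) hE d hd h ≫ mu hE d' hd' h' = mu hE (d + d') hdd hh := by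
  haveI := hE.epi_tauT (𝔗 := 𝔗) u (show l ≤ n by omega)
  rw [← cancel_epi (tauT ι 𝔗 u (show l ≤ n by omega)), tau_mu,
    ← tauT_comp ι 𝔗 u (show l ≤ m by omega) (show m ≤ n by omega), Category.assoc, reassoc_of% tau_mu hE d hd h,
    ← fX_mul ι (monF G d) (monF G d') (monF G (d + d')) (monF_add G d d') h h' hh]
  -- move the monomial across the transition
  have e : tauT ι 𝔗 u (show m ≤ n by omega) ≫ tensorMap (fX ι (monF G d) h) (𝟙 (𝔗.G m)) =
      tensorMap (fX ι (monF G d) h) (𝟙 (𝔗.G n)) ≫ tauT ι 𝔗 v (show m ≤ n by omega) := by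
    simp only [tauT, ← tensorMap_comp, Category.id_comp, Category.comp_id]
  rw [← Category.assoc, e, Category.assoc, tau_mu, ← tensorMap_comp, Category.comp_id]

theorem mu_trT (hE : Eqs ι G I) (d : Fin r →₀ ℕ) {m n : ℕ} (hd : d.degree + m = n)
    (hd₁ : d.degree + (m + 1) = n + 1) {w v : ℤ} (h : v = w + (wdeg a d : ℤ)) :
    mu (𝔗 := 𝔗) hE d hd₁ h ≫ trT ι 𝔗 v n = trT ι 𝔗 w m ≫ mu hE d hd h := by
  haveI := hE.epi_tauT (𝔗 := 𝔗) w (show m + 1 ≤ n + 1 by omega)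
  rw [← cancel_epi (tauT ι 𝔗 w (show m + 1 ≤ n + 1 by omega)), ← Category.assoc, tau_mu, ← tauT_le_succ ι 𝔗 w m,
    ← Category.assoc, tauT_comp, ← tauT_comp ι 𝔗 w (show m ≤ n by omega) (show n ≤ n + 1 by omega),
    Category.assoc, tau_mu, tauT_le_succ]
  simp only [trT, ← tensorMap_comp, Category.id_comp, Category.comp_id]

/-- A monomial of higher degree dies on a lower level. -/
theorem mu_tauT_eq_zero (hE : Eqs ι G I) (d : Fin r →₀ ℕ) {m n p : ℕ} (hd : d.degree + m = n) (hp : p ≤ n)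
    (hp' : p + 1 ≤ d.degree) {w v : ℤ} (h : v = w + (wdeg a d : ℤ)) :
    mu (𝔗 := 𝔗) hE d hd h ≫ tauT ι 𝔗 v hp = 0 := by
  haveI := hE.epi_tauT (𝔗 := 𝔗) w (show m ≤ n by omega)
  rw [← cancel_epi (tauT ι 𝔗 w (show m ≤ n by omega)), ← Category.assoc, tau_mu, comp_zero, ← tensorMap_comp,
    Category.comp_id, Category.id_comp]
  refine Groth.L21.Mod.hom_ext_stalk fun x => ?_
  ext z
  show sm x (tensorMap (fX ι (monF G d) h) (𝔗.tau hp)) z = sm x (0 : Lv ι 𝔗 w n ⟶ Lv ι 𝔗 v p) z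
  obtain ⟨c, φ, hI, -, -, hφ'⟩ := hE.exists_stalk x
  obtain ⟨y, rfl⟩ := (φ w _).surjective z
  rw [sm_zero, hφ', LinearEquiv.map_eq_zero_iff]
  exact 𝔗.kill p x (Ideal.pow_le_pow_right hp' (aE_mem c (I := sI I x) (fun i => hI ▸ Ideal.subset_span ⟨i, rfl⟩) d)) _

variable (ι 𝔗) in
/-- The graded pieces. -/
abbrev Kn (u : ℤ) (n : ℕ) : X.Modules := kernel (trT ι 𝔗 u n)

/-- The monomial maps onto the graded pieces. -/
def muE (hE : Eqs ι G I) {n : ℕ} (e : Sn r n) {w u : ℤ} (h : u = w + (wdeg a e.1 : ℤ)) :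
    Lv ι 𝔗 w 0 ⟶ Kn ι 𝔗 u n :=
  kernel.lift _ (mu hE e.1 (n := n + 1) (by rw [e.2]) h) (by
    rw [← tauT_le_succ]
    exact mu_tauT_eq_zero hE e.1 _ _ (by rw [e.2]) h)

theorem muE_ι (hE : Eqs ι G I) {n : ℕ} (e : Sn r n) {w u : ℤ} (h : u = w + (wdeg a e.1 : ℤ)) :
    muE (𝔗 := 𝔗) hE e h ≫ kernel.ι _ = mu hE e.1 (by rw [e.2]) h := kernel.lift_ι _ _ _

/-- The monomial maps between the graded pieces. -/
def kmu (hE : Eqs ι G I) (d : Fin r →₀ ℕ) {m n : ℕ} (hd : d.degree + m = n) {w v : ℤ}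
    (h : v = w + (wdeg a d : ℤ)) : Kn ι 𝔗 w m ⟶ Kn ι 𝔗 v n :=
  kernel.lift _ (kernel.ι _ ≫ mu hE d (by omega) h) (by
    rw [Category.assoc, mu_trT hE d hd (by omega) h, kernel.condition_assoc, zero_comp])

theorem kmu_ι (hE : Eqs ι G I) (d : Fin r →₀ ℕ) {m n : ℕ} (hd : d.degree + m = n) {w v : ℤ}
    (h : v = w + (wdeg a d : ℤ)) :
    kmu (𝔗 := 𝔗) hE d hd h ≫ kernel.ι _ = kernel.ι _ ≫ mu hE d (by omega) h := kernel.lift_ι _ _ _

theorem muE_kmu (hE : Eqs ι G I) {m n : ℕ} (d : Fin r →₀ ℕ) (hd : d.degree + m = n) (e : Sn r m) (e' : Sn r n)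
    (he : e'.1 = e.1 + d) {w u v : ℤ} (h : u = w + (wdeg a e.1 : ℤ)) (hv : v = u + (wdeg a d : ℤ))
    (hh : v = w + (wdeg a e'.1 : ℤ)) : muE (𝔗 := 𝔗) hE e h ≫ kmu hE d hd hv = muE hE e' hh := by
  obtain ⟨e', he'⟩ := e'
  obtain rfl : e' = e.1 + d := he
  rw [← cancel_mono (kernel.ι _), Category.assoc, kmu_ι, ← Category.assoc, muE_ι, muE_ι]
  exact mu_comp hE e.1 d _ _ _ h hv hh

/-- The monomials span the powers of the ideal. -/
theorem exists_coeff_pw {x : X} {c : Fin r → X.presheaf.stalk x} (hI : sI I x = Ideal.span (Set.range c)) (n : ℕ)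
    (s : Finset (Fin r →₀ ℕ)) (hs : ∀ e : Fin r →₀ ℕ, e.degree = n → e ∈ s) {M : X.Modules}
    {v : (Groth.L00.Stk.F X x).obj M} (hv : v ∈ pw I x M n) :
    ∃ m : (Fin r →₀ ℕ) → (Groth.L00.Stk.F X x).obj M, ∑ e ∈ s, aE c e • m e = v := by
  classical
  refine Submodule.smul_induction_on hv (fun b hb y _ => ?_) fun y y' ⟨m, hm⟩ ⟨m', hm'⟩ =>
    ⟨m + m', by simp only [Pi.add_apply, smul_add, Finset.sum_add_distrib, hm, hm']⟩
  have hb' := pow_le_span c hI n hb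
  clear hb
  induction hb' using Submodule.span_induction with
  | mem b hb' =>
    obtain ⟨e, he, rfl⟩ := hb'
    refine ⟨fun e' => if e' = e then y else 0, ?_⟩
    rw [Finset.sum_eq_single e (fun e' _ he' => by dsimp only; rw [if_neg he', smul_zero])
      (fun h' => absurd (hs e he) h')]
    dsimp only
    rw [if_pos rfl]
  | zero => exact ⟨0, by simp⟩
  | add p q _ _ ihp ihq =>
    obtain ⟨m, hm⟩ := ihp
    obtain ⟨m', hm'⟩ := ihq
    exact ⟨m + m', by simp only [Pi.add_apply, smul_add, Finset.sum_add_distrib, hm, hm', add_smul]⟩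
  | smul t p _ ih =>
    obtain ⟨m, hm⟩ := ih
    exact ⟨fun e => t • m e, by simp only [smul_comm (aE c _) t, ← Finset.smul_sum, hm, smul_eq_mul, mul_smul]⟩

/-- The monomial maps split the graded pieces. -/
theorem split (hE : Eqs ι G I) (u : ℤ) (n : ℕ) :
    ∃ σ : ∀ e : Sn r n, Kn ι 𝔗 u n ⟶ Lv ι 𝔗 (u - (wdeg a e.1 : ℤ)) 0,
      ∑ e, σ e ≫ muE hE e (sub_add_cancel u _).symm = 𝟙 (Kn ι 𝔗 u n) := by
  classical
  let P : Sn r n → X.Modules := fun e => Lv ι 𝔗 (u - (wdeg a e.1 : ℤ)) 0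
  let Φ : ⨁ P ⟶ Kn ι 𝔗 u n := biproduct.desc fun e => muE hE e (sub_add_cancel u _).symm
  have hb : ∀ (x : X) (z : (Groth.L00.Stk.F X x).obj (⨁ P)),
      z = ∑ e, sm x (biproduct.ι P e) (sm x (biproduct.π P e) z) := fun x z => by
    let α : (⨁ P ⟶ ⨁ P) →+ (Groth.L00.Stk.F X x).obj (⨁ P) :=
      AddMonoidHom.mk' (fun f => sm x f z) fun f g => by
        show ((Groth.L00.Stk.F X x).map (f + g)).hom z = _
        rw [Functor.map_add]; rfl
    conv_lhs => rw [show z = α (𝟙 _) from (sm_id x z).symm, ← biproduct.total, map_sum]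
    exact Finset.sum_congr rfl fun e _ => sm_comp x _ _ _
  -- the monomial maps on stalks
  have hμ : ∀ (x : X) (c : Fin r → X.presheaf.stalk x) (φ : ∀ (w : ℤ) (M : X.Modules),
      (Groth.L00.Stk.F X x).obj M ≃ₗ[X.presheaf.stalk x] (Groth.L00.Stk.F X x).obj (CohB1.tensorMod (T ι w) M)),
      (∀ (w : ℤ) {M M' : X.Modules} (g : M ⟶ M') v, sm x (tensorMap (𝟙 (T ι w)) g) (φ w M v) = φ w M' (sm x g v)) →
      (∀ (d : Fin r →₀ ℕ) (w v : ℤ) (h : v = w + (wdeg a d : ℤ)) {M M' : X.Modules} (g : M ⟶ M') y,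
        sm x (tensorMap (fX ι (monF G d) h) g) (φ w M y) = φ v M' (aE c d • sm x g y)) →
      ∀ (e : Sn r n) (y : (Groth.L00.Stk.F X x).obj (𝔗.G (n + 1))),
        sm x (biproduct.ι P e ≫ Φ ≫ kernel.ι _) (φ _ _ (sm x (𝔗.tau (Nat.zero_le (n + 1))) y)) =
          φ u _ (aE c e.1 • y) := by
    intro x c φ hφ hφ' e y
    have h1 : biproduct.ι P e ≫ Φ ≫ kernel.ι _ = mu hE e.1 (n := n + 1) (by rw [e.2]) (sub_add_cancel u _).symm := by
      rw [biproduct.ι_desc_assoc, muE_ι]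
    rw [h1, ← hφ, ← sm_comp, tau_mu, hφ', sm_id]
  haveI : Mono Φ := mono_of_sm _ fun x => by
    refine (injective_iff_map_eq_zero ((Groth.L00.Stk.F X x).map Φ).hom).2 fun z hz => ?_
    obtain ⟨c, φ, hI, hreg, hφ, hφ'⟩ := hE.exists_stalk x
    choose y hy using fun e : Sn r n => (φ (u - (wdeg a e.1 : ℤ)) (𝔗.G 0)).surjective (sm x (biproduct.π P e) z)
    choose y' hy' using fun e : Sn r n => surjective_sm (𝔗.tau (Nat.zero_le (n + 1))) x (y e)
    have h0 : sm x (Φ ≫ kernel.ι _) z = 0 := by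
      rw [sm_comp]; exact (congrArg (sm x (kernel.ι _)) hz).trans (sm_map_zero x _)
    rw [hb x z] at h0
    let α := ((Groth.L00.Stk.F X x).map (Φ ≫ kernel.ι (trT ι 𝔗 u n))).hom
    change α (∑ e, sm x (biproduct.ι P e) (sm x (biproduct.π P e) z)) = 0 at h0
    rw [map_sum] at h0
    have h1 : ∑ e : Sn r n, φ u _ (aE c e.1 • y' e) = 0 := by
      rw [← h0]
      refine Finset.sum_congr rfl fun e _ => ?_
      show _ = sm x (Φ ≫ kernel.ι _) (sm x (biproduct.ι P e) _)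
      rw [← sm_comp, ← hy, ← hy' e, hμ x c φ hφ hφ' e (y' e)]
    rw [← map_sum, LinearEquiv.map_eq_zero_iff] at h1
    have h2 : ∀ e : Sn r n, y' e ∈ pw I x (𝔗.G (n + 1)) 1 := by
      rcases hreg with hreg | htop
      · let m : (Fin r →₀ ℕ) → (Groth.L00.Stk.F X x).obj (𝔗.G (n + 1)) :=
          fun d => if hd : d.degree = n + 1 then y' ⟨d, hd⟩ else 0
        have hm : ∀ e : Sn r n, m e.1 = y' e := fun e => dif_pos e.2
        have h3 := 𝔗.coeff_mem c hI hreg (n + 1) ((Finset.univ : Finset (Sn r n)).map ⟨Subtype.val, Subtype.val_injective⟩)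
          (fun d hd => by obtain ⟨e, -, rfl⟩ := Finset.mem_map.1 hd; exact e.2) m
          (by rw [Finset.sum_map]; simpa only [Function.Embedding.coeFn_mk, hm] using h1)
        exact fun e => hm e ▸ h3 e.1 (Finset.mem_map.2 ⟨e, Finset.mem_univ _, rfl⟩)
      · intro e
        show y' e ∈ sI I x ^ 1 • (⊤ : Submodule (X.presheaf.stalk x) _)
        rw [pow_one, htop, Submodule.top_smul]
        trivial
    rw [hb x z]
    refine Finset.sum_eq_zero fun e _ => ?_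
    have h4 : y e = 0 := by
      rw [← hy' e]
      exact 𝔗.eq_zero_of_mem 0 x (sm_mem_pw I _ _ (h2 e))
    rw [← hy, h4, map_zero, sm_map_zero]
  haveI : Epi Φ := epi_of_sm _ fun x z => by
    obtain ⟨c, φ, hI, -, hφ, hφ'⟩ := hE.exists_stalk x
    obtain ⟨v, hv⟩ := (φ u (𝔗.G (n + 1))).surjective (sm x (kernel.ι _) z)
    have h1 : sm x (trT ι 𝔗 u n) (φ u _ v) = 0 := by rw [hv, ← sm_comp, kernel.condition, sm_zero]
    rw [hφ, LinearEquiv.map_eq_zero_iff] at h1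
    obtain ⟨m, hm⟩ := exists_coeff_pw hI (n + 1) ((Finset.univ : Finset (Sn r n)).map ⟨Subtype.val, Subtype.val_injective⟩)
      (fun e he => Finset.mem_map.2 ⟨⟨e, he⟩, Finset.mem_univ _, rfl⟩) (𝔗.ker_tr n x v h1)
    rw [Finset.sum_map] at hm
    refine ⟨∑ e : Sn r n, sm x (biproduct.ι P e) (φ _ _ (sm x (𝔗.tau (Nat.zero_le (n + 1))) (m e.1))), ?_⟩
    refine injective_sm (kernel.ι _) x ?_
    rw [← sm_comp, ← hv, ← hm, map_sum]
    show ((Groth.L00.Stk.F X x).map (Φ ≫ kernel.ι (trT ι 𝔗 u n))).hom _ = _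
    rw [map_sum]
    refine Finset.sum_congr rfl fun e _ => ?_
    show sm x (Φ ≫ kernel.ι _) (sm x (biproduct.ι P e) _) = _
    rw [← sm_comp, hμ x c φ hφ hφ' e (m e.1)]
    rfl
  haveI : IsIso Φ := isIso_of_mono_of_epi Φ
  refine ⟨fun e => inv Φ ≫ biproduct.π P e, ?_⟩
  calc ∑ e, (inv Φ ≫ biproduct.π P e) ≫ muE hE e (sub_add_cancel u _).symm
      = inv Φ ≫ ∑ e, biproduct.π P e ≫ biproduct.ι P e ≫ Φ := by
        rw [Preadditive.comp_sum]
        exact Finset.sum_congr rfl fun e _ => by rw [biproduct.ι_desc, Category.assoc]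
    _ = 𝟙 _ := by
        simp only [← Category.assoc (biproduct.π P _)]
        rw [← Preadditive.sum_comp, biproduct.total, Category.id_comp, IsIso.inv_hom_id]

end Groth.L13.LeffCI
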