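import Groth.Agent.L13.LeffCI.Sys

/-!
# Reductions along a closed subscheme; the algebraization criterion
-/

set_option autoImplicit false
set_option linter.style.haveILetI false
set_option linter.unusedSectionVars false
set_option backward.isDefEq.respectTransparency false
set_option backward.isDefEq.respectTransparency.types false
universe u

open CategoryTheory CategoryTheory.Limits AlgebraicGeometry Opposite

noncomputable section

namespace Groth.L13.LeffCI

open Groth.L00.Tensor (tensorRightF)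
open Groth.L22.Reg (sm sm_comp sm_id sm_map_sub sm_map_zero sm_zero sm_map_add)
open Groth.L18.LefTower (sm_smul surjective_sm injective_sm epi_of_sm mono_of_sm exists_kernel_preimage
  adjApp comp3_app trans_step)
open Groth.L18.Frame (rs pull)
open Groth.L20.SeeNormal (sI)
open Groth.L17.IdealMulSec (η η_app_eq_zero_iff)
open Groth.L17.FSheaf (pullSys gObj gTr gle gTr_app)
open Groth.L13.AlgzSec (exists_twist_stalk smul_push_subscheme)

variable {X : Scheme.{u}} (I : X.IdealSheafData)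

/-- `π` is on all stalks the quotient by the `l`-th power of the ideal. -/
def IRed (l : ℕ) {E P : X.Modules} (π : E ⟶ P) : Prop :=
  (∀ x, Function.Surjective (sm x π)) ∧ ∀ x v, sm x π v = 0 ↔ v ∈ pw I x E l

theorem eq_zero_push (l : ℕ) (M : (I ^ l).subscheme.Modules) (x : X)
    {v : (Groth.L00.Stk.F X x).obj ((Scheme.Modules.pushforward (I ^ l).subschemeι).obj M)}
    (hv : v ∈ pw I x _ l) : v = 0 :=
  Submodule.smul_induction_on hv
    (fun r hr w _ => smul_push_subscheme _ M x (by rwa [Groth.L20.Infinitesimal.sI_pow]) w)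
    fun a b ha hb => by rw [ha, hb, add_zero]

/-- The unit of a thickening is a reduction. -/
theorem iRed_η (l : ℕ) (E : X.Modules) [Coh.IsQCoh E] : IRed I l (η (I ^ l) E) := by
  haveI : Epi (η (I ^ l) E) := Groth.L22.Reg.epi_unit (I ^ l).subschemeι E
  refine ⟨fun x => surjective_sm _ x, fun x v => ⟨fun hv => ?_, fun hv => eq_zero_push I l _ x (sm_mem_pw I _ l hv)⟩⟩
  let Q := (Scheme.Modules.pushforward (I ^ l).subschemeι).obj ((Scheme.Modules.pullback (I ^ l).subschemeι).obj E)
  obtain ⟨U, hxU, y, rfl⟩ := TopCat.Presheaf.exists_germ_eq (F := E.presheaf) (x := x) v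
  have h0 : Q.presheaf.germ U x hxU ((η (I ^ l) E).app U y) = Q.presheaf.germ U x hxU 0 := by
    rw [map_zero]
    exact (TopCat.Presheaf.stalkFunctor_map_germ_apply U x hxU _ y).symm.trans hv
  obtain ⟨U', hxU', i, j, hij⟩ := TopCat.Presheaf.germ_eq _ x hxU hxU _ _ h0
  rw [map_zero] at hij
  obtain ⟨W, hW, hxW, hWU'⟩ := exists_isAffineOpen_mem_and_subset (x := x) (U := U') hxU'
  have hWU : W ≤ U := fun z hz => i.le (hWU' hz)
  have hy : (η (I ^ l) E).app W (rs E hWU y) = 0 := by
    refine (Groth.L19.ProjBdl.app_rs (η (I ^ l) E) hWU y).trans ?_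
    show Q.presheaf.map (homOfLE hWU).op _ = 0
    rw [show (homOfLE hWU).op = i.op ≫ (homOfLE hWU').op from Subsingleton.elim _ _, Functor.map_comp,
      ConcreteCategory.comp_apply, hij, map_zero]
  have hmem := (η_app_eq_zero_iff (I ^ l) E hW _).1 hy
  rw [Scheme.IdealSheafData.ideal_pow, Pi.pow_apply] at hmem
  have := germ_mem_pw I (G := E) hW hxW l hmem
  rw [show E.presheaf.germ W x hxW (rs E hWU y) = E.presheaf.germ U x hxU y from
    TopCat.Presheaf.germ_res_apply E.presheaf (homOfLE hWU) x hxW y] at this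
  exact this

variable {I}

theorem IRed.epi {l : ℕ} {E P : X.Modules} {π : E ⟶ P} (h : IRed I l π) : Epi π := epi_of_sm π h.1

theorem IRed.kernel_comp {l : ℕ} {E P : X.Modules} {π : E ⟶ P} (h : IRed I l π) {B : X.Modules} (b : E ⟶ B)
    (hb : ∀ x v, v ∈ pw I x E l → sm x b v = 0) : kernel.ι π ≫ b = 0 :=
  Groth.L21.Mod.hom_ext_stalk fun x => by
    ext z
    show sm x (kernel.ι π ≫ b) z = sm x (0 : kernel π ⟶ B) z
    rw [sm_comp, sm_zero]
    exact hb x _ ((h.2 x _).1 (by rw [← sm_comp, kernel.condition, sm_zero]))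

/-- Reductions are unique. -/
theorem IRed.exists_iso {l : ℕ} {E P P' : X.Modules} {π : E ⟶ P} {π' : E ⟶ P'} (h : IRed I l π)
    (h' : IRed I l π') : ∃ e : P ≅ P', π ≫ e.hom = π' := by
  haveI := h.epi
  haveI := h'.epi
  have h1 := h.kernel_comp π' fun x v hv => (h'.2 x v).2 hv
  have h2 := h'.kernel_comp π fun x v hv => (h.2 x v).2 hv
  refine ⟨⟨Abelian.epiDesc π π' h1, Abelian.epiDesc π' π h2, ?_, ?_⟩, Abelian.comp_epiDesc _ _ _⟩
  · rw [← cancel_epi π, ← Category.assoc, Abelian.comp_epiDesc, Abelian.comp_epiDesc, Category.comp_id]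
  · rw [← cancel_epi π', ← Category.assoc, Abelian.comp_epiDesc, Abelian.comp_epiDesc, Category.comp_id]

theorem mem_pw_map_iff {x : X} {M N : X.Modules}
    (φ : (Groth.L00.Stk.F X x).obj M ≃ₗ[X.presheaf.stalk x] (Groth.L00.Stk.F X x).obj N) (m : ℕ)
    (v : (Groth.L00.Stk.F X x).obj M) : φ v ∈ pw I x N m ↔ v ∈ pw I x M m := by
  have h : (pw I x M m).map φ.toLinearMap = pw I x N m := by
    show ((sI I x ^ m • ⊤ : Submodule _ _)).map φ.toLinearMap = _
    rw [Submodule.map_smul'', Submodule.map_top, LinearMap.range_eq_top.2 φ.surjective]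
  rw [← h]
  exact ⟨fun ⟨w, hw, e⟩ => φ.injective e ▸ hw, fun hv => ⟨v, hv, rfl⟩⟩

/-- Reductions survive twists on the right. -/
theorem IRed.tensorRight {l : ℕ} {E P : X.Modules} {π : E ⟶ P} (h : IRed I l π) {W : X.Modules}
    (hW : PicF.IsInvertible W) : IRed I l ((tensorRightF W).map π) := by
  refine ⟨fun x w => ?_, fun x v => ?_⟩ <;> obtain ⟨φ, hφ⟩ := exists_twist_stalk hW x
  · obtain ⟨w, rfl⟩ := (φ P).surjective w
    obtain ⟨v, rfl⟩ := h.1 x w
    exact ⟨φ E v, hφ π v⟩
  · obtain ⟨v, rfl⟩ := (φ E).surjective v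
    rw [hφ, LinearEquiv.map_eq_zero_iff, h.2 x v, mem_pw_map_iff]

variable (I)

/-- The reductions of a module. -/
abbrev red (E : X.Modules) (n : ℕ) : X.Modules :=
  (Scheme.Modules.pushforward (I ^ (n + 1)).subschemeι).obj
    ((Scheme.Modules.pullback (I ^ (n + 1)).subschemeι).obj E)

theorem exists_red_tr (E : X.Modules) [Coh.IsQCoh E] (n : ℕ) :
    ∃ t : red I E (n + 1) ⟶ red I E n, η (I ^ (n + 1 + 1)) E ≫ t = η (I ^ (n + 1)) E := by
  haveI : Epi (η (I ^ (n + 1 + 1)) E) := Groth.L22.Reg.epi_unit (I ^ (n + 1 + 1)).subschemeι E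
  have hk := (iRed_η I (n + 1 + 1) E).kernel_comp (η (I ^ (n + 1)) E) fun x v hv =>
    ((iRed_η I (n + 1) E).2 x v).2 (Submodule.smul_mono_left (Ideal.pow_le_pow_right (by omega)) hv)
  exact ⟨Abelian.epiDesc _ _ hk, Abelian.comp_epiDesc _ _ _⟩

variable [IsLocallyNoetherian X]

/-- The system of the reductions of a bundle. -/
def bundleSys (E : X.Modules) (hE : FlatMod.IsFinLocFree E) : PSys I :=
  haveI : Coh.IsQCoh E := (Groth.L16.NegPow.isCoh_of_isFinLocFree hE).1
  { G := red I E
    tr := fun n => (exists_red_tr I E n).choose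
    vb := fun n => ⟨_, Groth.L29.LocFree.pullback _ hE, ⟨Iso.refl _⟩⟩
    surj := fun n x v => by
      obtain ⟨w, hw⟩ := (iRed_η I (n + 1) E).1 x v
      refine ⟨sm x (η (I ^ (n + 1 + 1)) E) w, ?_⟩
      rw [← sm_comp, (exists_red_tr I E n).choose_spec]
      exact hw
    ker_tr := fun n x v hv => by
      obtain ⟨w, rfl⟩ := (iRed_η I (n + 1 + 1) E).1 x v
      rw [← sm_comp, (exists_red_tr I E n).choose_spec] at hv
      exact sm_mem_pw I _ _ (((iRed_η I (n + 1) E).2 x w).1 hv) }

theorem bundleSys_tr (E : X.Modules) (hE : FlatMod.IsFinLocFree E) (n : ℕ) :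
    η (I ^ (n + 1 + 1)) E ≫ (bundleSys I E hE).tr n = η (I ^ (n + 1)) E := by
  haveI : Coh.IsQCoh E := (Groth.L16.NegPow.isCoh_of_isFinLocFree hE).1
  exact (exists_red_tr I E n).choose_spec

/-- The kernel of an epimorphism of systems is a system. -/
theorem exists_kerSys (P T : PSys I) (φ : ∀ n, P.G n ⟶ T.G n)
    (hφ : ∀ n, φ (n + 1) ≫ T.tr n = P.tr n ≫ φ n) (hs : ∀ n, Epi (φ n)) :
    ∃ (K : PSys I) (ι : ∀ n, K.G n ⟶ P.G n) (w : ∀ n, ι n ≫ φ n = 0),
      (∀ n, ι (n + 1) ≫ P.tr n = K.tr n ≫ ι n) ∧ ∀ n, (ShortComplex.mk (ι n) (φ n) (w n)).Exact := by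
  refine ⟨{ G := fun n => kernel (φ n)
            tr := fun n => kernel.map _ _ (P.tr n) (T.tr n) (hφ n)
            vb := fun n => ?_
            surj := fun n x v => ?_
            ker_tr := fun n x v hv => ?_ },
    fun n => kernel.ι (φ n), fun n => kernel.condition _, fun n => (kernel.lift_ι _ _ _).symm,
    fun n => ShortComplex.exact_kernel _⟩
  · obtain ⟨V, hV, ⟨a⟩⟩ := P.vb n
    obtain ⟨V', hV', ⟨a'⟩⟩ := T.vb n
    let j := (I ^ (n + 1)).subschemeι
    let adj := Scheme.Modules.pullbackPushforwardAdjunction j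
    haveI := Groth.L17.ClosedPush.isIso_counit j
    let ff := adj.fullyFaithfulROfIsIsoCounit
    haveI := ff.full
    haveI := ff.faithful
    haveI := hs n
    let ψ := (Scheme.Modules.pushforward j).preimage (a.inv ≫ φ n ≫ a'.hom)
    have hψ : (Scheme.Modules.pushforward j).map ψ = a.inv ≫ φ n ≫ a'.hom := Functor.map_preimage _ _
    haveI : Epi ψ := (Scheme.Modules.pushforward j).epi_of_epi_map (by rw [hψ]; infer_instance)
    exact ⟨kernel ψ, Groth.L29.DC.isFinLocFree_kernel_of_epi ψ hV hV',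
      ⟨kernel.mapIso (φ n) ((Scheme.Modules.pushforward j).map ψ) a a' (by rw [hψ, Iso.hom_inv_id_assoc]) ≪≫
        (PreservesKernel.iso _ ψ).symm⟩⟩
  · haveI := hs (n + 1)
    obtain ⟨z, hz⟩ := P.surj n x (sm x (kernel.ι (φ n)) v)
    have h1 := T.ker_tr n x (sm x (φ (n + 1)) z) (by
      rw [← sm_comp, hφ, sm_comp, hz, ← sm_comp, kernel.condition, sm_zero])
    obtain ⟨u, hu, hu'⟩ := exists_preimage_pw I (φ (n + 1)) (n + 1) h1
    obtain ⟨y, hy⟩ := exists_kernel_preimage (φ (n + 1)) x (v := z - u) (by rw [sm_map_sub, hu', sub_self])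
    refine ⟨y, injective_sm (kernel.ι (φ n)) x ?_⟩
    rw [← sm_comp, kernel.lift_ι, sm_comp, hy, sm_map_sub, P.eq_zero_of_mem n x (sm_mem_pw I _ _ hu), sub_zero, hz]
  · haveI := hs (n + 1)
    haveI := hs n
    have h0 : sm x (P.tr n) (sm x (kernel.ι (φ (n + 1))) v) = 0 := by
      rw [← sm_comp, show kernel.ι (φ (n + 1)) ≫ P.tr n = _ from (kernel.lift_ι (φ n) _ _).symm, sm_comp]
      exact (congrArg (sm x (kernel.ι (φ n))) hv).trans (sm_map_zero x _)
    -- split off a complement using a frame of the target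
    obtain ⟨m, b, hb, hb'⟩ := T.exists_frame (n + 1) x
    choose A hA using fun i => surjective_sm (φ (n + 1)) x (b i)
    have key : ∀ p, ∃ y, ∃ c : Fin m → X.presheaf.stalk x,
        p = sm x (kernel.ι (φ (n + 1))) y + ∑ i, c i • A i ∧ ∑ i, c i • b i = sm x (φ (n + 1)) p := fun p => by
      obtain ⟨c, hc⟩ := hb (sm x (φ (n + 1)) p)
      obtain ⟨y, hy⟩ := exists_kernel_preimage (φ (n + 1)) x (v := p - ∑ i, c i • A i) (by
        rw [sm_map_sub, sub_eq_zero, ← hc]
        show _ = ((Groth.L00.Stk.F X x).map (φ (n + 1))).hom _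
        rw [map_sum]
        exact Finset.sum_congr rfl fun i _ => by rw [map_smul]; exact congrArg (c i • ·) (hA i).symm)
      exact ⟨y, c, by rw [hy, sub_add_cancel], hc⟩
    have h2 : ∀ p ∈ pw I x (P.G (n + 1)) (n + 1), ∃ y ∈ pw I x (kernel (φ (n + 1))) (n + 1),
        ∃ c : Fin m → X.presheaf.stalk x, (∀ i, c i ∈ sI I x ^ (n + 1)) ∧
          p = sm x (kernel.ι (φ (n + 1))) y + ∑ i, c i • A i := fun p hp => by
      refine Submodule.smul_induction_on hp (fun r hr q _ => ?_) fun p q ⟨y, hy, c, hc, e⟩ ⟨y', hy', c', hc', e'⟩ =>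
        ⟨y + y', add_mem hy hy', c + c', fun i => add_mem (hc i) (hc' i), by
          simp only [sm_map_add, Pi.add_apply, add_smul, Finset.sum_add_distrib, e, e']; abel⟩
      obtain ⟨y, c, e, -⟩ := key q
      exact ⟨r • y, Submodule.smul_mem_smul hr trivial, fun i => r * c i, fun i => Ideal.mul_mem_right _ _ hr, by
        simp only [sm_smul, mul_smul, ← Finset.smul_sum, ← smul_add, ← e]⟩
    obtain ⟨y, hy, c, hc, e⟩ := h2 _ (P.ker_tr n x _ h0)
    have hy0 : sm x (φ (n + 1)) (sm x (kernel.ι (φ (n + 1))) y) = 0 := by rw [← sm_comp, kernel.condition, sm_zero]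
    have h3 : ∑ i, c i • b i = 0 := by
      have := congrArg (sm x (φ (n + 1))) e
      rw [← sm_comp, kernel.condition, sm_zero, sm_map_add, hy0, zero_add] at this
      rw [this]
      show _ = ((Groth.L00.Stk.F X x).map (φ (n + 1))).hom _
      rw [map_sum]
      exact Finset.sum_congr rfl fun i _ => by rw [map_smul]; exact congrArg (c i • ·) (hA i).symm
    have h4 : ∑ i, c i • A i = 0 := Finset.sum_eq_zero fun i _ => P.kill (n + 1) x ((hb' c).1 h3 i) _
    rw [h4, add_zero] at e
    rw [injective_sm (kernel.ι (φ (n + 1))) x e]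
    exact hy

variable {I}
variable (𝔐 : FSch.ModSys (FSch.completionAlong X I))

local notation "𝔛" => FSch.completionAlong X I
local notation "p" => FSch.completionToX X I
local notation "hp" => FSch.completionToX_comm X I

/-- A module with the levels of a system as reductions has it as completion. -/
theorem nonempty_complMod_iso {F : X.Modules} (hF : Coh.IsCoh F)
    (β : ∀ n, F ⟶ gObj (𝔛) (p) 𝔐 n) (hβ : ∀ n, β (n + 1) ≫ gTr (𝔛) (p) hp 𝔐 n = β n)
    (hs : ∀ n x, Function.Surjective (sm x (β n)))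
    (hk : ∀ n x v, sm x (β n) v = 0 → v ∈ pw I x F (n + 1)) :
    Nonempty (FSch.complMod I F ≅ 𝔐) := by
  haveI : Coh.IsQCoh F := hF.1
  let adj := fun k => Scheme.Modules.pullbackPushforwardAdjunction (p k)
  let a : ∀ k, (pullSys (𝔛) (p) hp F).F k ⟶ 𝔐.F k := fun k => ((adj k).homEquiv _ _).symm (β k)
  have hfac : ∀ k, (adj k).unit.app F ≫ (Scheme.Modules.pushforward (p k)).map (a k) = β k := fun k => by
    exact ((adj k).homEquiv_unit (f := a k)).symm.trans (Equiv.apply_symm_apply _ _)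
  have ha : ∀ (k : ℕ) (W : X.Opens) (m : Γ(F, W)),
      (a k).app (p k ⁻¹ᵁ W) (pull (p k) F W m) = (show Γ(𝔐.F k, p k ⁻¹ᵁ W) from (β k).app W m) := fun k W m =>
    ConcreteCategory.congr_hom (congrArg (fun t => Scheme.Modules.Hom.app t W) (hfac k)) m
  have hcomm : ∀ k, (Scheme.Modules.pullback ((𝔛).ι k)).map (a (k + 1)) ≫ (𝔐.e k).hom =
      ((pullSys (𝔛) (p) hp F).e k).hom ≫ a k := fun k => by
    refine (cancel_epi ((pullSys (𝔛) (p) hp F).e k).inv).1 ?_
    rw [Iso.inv_hom_id_assoc]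
    refine ((Scheme.Modules.pullbackPushforwardAdjunction (p k)).homEquiv F (𝔐.F k)).injective ?_
    refine Groth.L16.AffineBC.hom_ext_affine _ _ fun W _ m => ?_
    rw [adjApp, adjApp, comp3_app]
    have h4 := trans_step ((𝔛).ι k) (p (k + 1)) (FSch.completionToX_comm X I k) F (a (k + 1)) W m
      (gle (𝔛) (p) k W (FSch.completionToX_comm X I k))
    refine (congrArg ((𝔐.e k).hom.app (p k ⁻¹ᵁ W))
      (h4.trans (congrArg (fun t => rs ((Scheme.Modules.pullback ((𝔛).ι k)).obj (𝔐.F (k + 1))) _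
        (pull ((𝔛).ι k) (𝔐.F (k + 1)) _ t)) (ha (k + 1) W m)))).trans ?_
    refine Eq.trans ?_ (ha k W m).symm
    refine (gTr_app (𝔛) (p) hp 𝔐 k W ((β (k + 1)).app W m)).symm.trans ?_
    exact ConcreteCategory.congr_hom (congrArg (fun t => Scheme.Modules.Hom.app t W) (hβ k)) m
  haveI hai : ∀ k, IsIso (a k) := fun k => by
    haveI := Groth.L17.FSheaf.isClosedImmersion_completionToX I k
    let b := (Scheme.Modules.pushforward (p k)).map (a k)
    haveI : IsIso b := by
      haveI : Epi b := epi_of_sm _ fun x v => by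
        obtain ⟨w, rfl⟩ := hs k x v
        exact ⟨sm x ((adj k).unit.app F) w, by rw [← sm_comp, hfac]; rfl⟩
      haveI : Mono b := mono_of_sm _ fun x => by
        refine (injective_iff_map_eq_zero ((Groth.L00.Stk.F X x).map b).hom).2 fun z hz => ?_
        obtain ⟨U, hxU, t, rfl⟩ := TopCat.Presheaf.exists_germ_eq (F := ((Scheme.Modules.pushforward (p k)).obj ((Scheme.Modules.pullback (p k)).obj F)).presheaf) (x := x) z
        obtain ⟨W, hW, hxW, hWU⟩ := exists_isAffineOpen_mem_and_subset (x := x) (U := U) hxU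
        obtain ⟨m, hm⟩ := Groth.L18.LefTower.surjective_unit I (M := F) k hW (rs _ hWU t)
        let v : (Groth.L00.Stk.F X x).obj F := F.presheaf.germ W x hxW m
        have hv : sm x ((adj k).unit.app F) v =
            ((Scheme.Modules.pushforward (p k)).obj ((Scheme.Modules.pullback (p k)).obj F)).presheaf.germ U x hxU t :=
          (TopCat.Presheaf.stalkFunctor_map_germ_apply W x hxW _ m).trans
            ((congrArg (((Scheme.Modules.pushforward (p k)).obj ((Scheme.Modules.pullback (p k)).obj F)).presheaf.germ W x hxW) hm).trans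
              (TopCat.Presheaf.germ_res_apply _ (homOfLE hWU) x hxW t))
        rw [← hv]
        refine eq_zero_push I (k + 1) _ x (sm_mem_pw I _ _ (hk k x v ?_))
        rw [← hfac k, sm_comp]
        exact (congrArg (sm x b) hv).trans hz
      exact isIso_of_mono_of_epi b
    haveI := Groth.L17.ClosedPush.isIso_counit (p k)
    have e2 : a k = inv ((adj k).counit.app _) ≫
        (Scheme.Modules.pullback (p k)).map b ≫ (adj k).counit.app _ := by
      rw [IsIso.eq_inv_comp]
      exact ((adj k).counit.naturality (a k)).symm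
    rw [e2]
    infer_instance
  let Φ : pullSys (𝔛) (p) hp F ⟶ 𝔐 := ⟨a, hcomm⟩
  haveI : ∀ n, IsIso (Φ.app n) := hai
  exact (show pullSys (𝔛) (p) hp F = FSch.complMod I F from rfl) ▸ ⟨Groth.L18.FreeNearLevels.isoOfApp Φ⟩

end Groth.L13.LeffCI
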