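import Groth.Agent.L13.AlgzSec.Systems
import Groth.Agent.L29.Formal.QuasiRegModule

/-!
# Systems of bundles on the thickenings of a closed subscheme
-/

set_option autoImplicit false
set_option linter.style.haveILetI false
set_option linter.unusedSectionVars false
set_option backward.isDefEq.respectTransparency false
set_option backward.isDefEq.respectTransparency.types false
universe u

open CategoryTheory CategoryTheory.Limits AlgebraicGeometry Opposite

noncomputable section

namespace Groth.L13.LeffCI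

open Groth.L22.Reg (sm sm_comp sm_id sm_map_sub sm_map_zero sm_zero sm_map_add)
open Groth.L18.LefTower (sm_smul surjective_sm injective_sm epi_of_sm exists_kernel_preimage gTr_spec)
open Groth.L18.Frame (rs)
open Groth.L19.ProjBdl (app_rs)
open Groth.L17.FSheaf (gObj gTr)
open Groth.L20.SeeNormal (sI)
open Groth.L16.Existence (aE aE_mem)

/-- A preimage inside `J • ⊤`. -/
theorem exists_preimage_smul_top {R M N : Type*} [CommRing R] [AddCommGroup M] [Module R M] [AddCommGroup N]
    [Module R N] (f : M →ₗ[R] N) (hf : Function.Surjective f) (J : Ideal R) {v : N}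
    (hv : v ∈ J • (⊤ : Submodule R N)) : ∃ u ∈ J • (⊤ : Submodule R M), f u = v := by
  have h : (J • (⊤ : Submodule R M)).map f = J • (⊤ : Submodule R N) := by
    rw [Submodule.map_smul'', Submodule.map_top, LinearMap.range_eq_top.2 hf]
  rw [← h] at hv
  exact hv

variable {X : Scheme.{u}} (I : X.IdealSheafData)

/-- The multiples of the `m`-th power of the ideal in a stalk. -/
abbrev pw (x : X) (M : X.Modules) (m : ℕ) :
    Submodule (X.presheaf.stalk x) ((Groth.L00.Stk.F X x).obj M) :=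
  sI I x ^ m • ⊤

theorem sm_mem_pw {x : X} {M N : X.Modules} (f : M ⟶ N) (m : ℕ) {v : (Groth.L00.Stk.F X x).obj M}
    (hv : v ∈ pw I x M m) : sm x f v ∈ pw I x N m :=
  Submodule.smul_induction_on hv (fun r hr w _ => (sm_smul f r w).symm ▸ Submodule.smul_mem_smul hr trivial)
    fun v w hv hw => (sm_map_add x f v w).symm ▸ add_mem hv hw

theorem exists_preimage_pw {x : X} {M N : X.Modules} (f : M ⟶ N) [Epi f] (m : ℕ)
    {v : (Groth.L00.Stk.F X x).obj N} (hv : v ∈ pw I x N m) :
    ∃ w ∈ pw I x M m, sm x f w = v :=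
  exists_preimage_smul_top ((Groth.L00.Stk.F X x).map f).hom (surjective_sm f x) _ hv

/-- A system of bundles on the thickenings of a closed subscheme, each the reduction of the next. -/
structure PSys where
  /-- the levels, as modules on `X` -/
  G : ℕ → X.Modules
  /-- the transition maps -/
  tr : ∀ n, G (n + 1) ⟶ G n
  vb : ∀ n, ∃ V : (I ^ (n + 1)).subscheme.Modules, FlatMod.IsFinLocFree V ∧
    Nonempty (G n ≅ (Scheme.Modules.pushforward (I ^ (n + 1)).subschemeι).obj V)
  surj : ∀ n x, Function.Surjective (sm x (tr n))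
  ker_tr : ∀ n (x : X) (v : (Groth.L00.Stk.F X x).obj (G (n + 1))), sm x (tr n) v = 0 →
    v ∈ pw I x (G (n + 1)) (n + 1)

variable {I}

/-- The stalks of a bundle on a closed subscheme. -/
theorem exists_frame_push (J : X.IdealSheafData) {V : J.subscheme.Modules} (hV : FlatMod.IsFinLocFree V) (x : X) :
    ∃ (m : ℕ) (b : Fin m → (Groth.L00.Stk.F X x).obj ((Scheme.Modules.pushforward J.subschemeι).obj V)),
      (∀ v, ∃ c : Fin m → X.presheaf.stalk x, ∑ i, c i • b i = v) ∧
      ∀ c : Fin m → X.presheaf.stalk x, ∑ i, c i • b i = 0 ↔ ∀ i, c i ∈ sI J x := by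
  let j := J.subschemeι
  by_cases hx : x ∈ Set.range j
  · obtain ⟨z, rfl⟩ := hx
    let E := Groth.L18.NegVanish.pushE j V z
    let R := J.subscheme.presheaf.stalk z
    haveI : Module.Free R (V.presheaf.stalk z) := Groth.L18.LFP.free_stalk V hV z
    haveI : Module.Finite R (V.presheaf.stalk z) :=
      Groth.L18.LFP.finite_stalk V ((Groth.L18.LFP.isFP_and_free_iff V).2 hV).1 z
    let B := Module.finBasis R (V.presheaf.stalk z)
    have hk : ∀ c, E.φ c = 0 ↔ c ∈ sI J (j z) := fun c => by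
      rw [← RingHom.mem_ker, show RingHom.ker E.φ = sI (j).ker (j z) from
        Groth.L20.Infinitesimal.ker_stalkMap j z, Scheme.IdealSheafData.ker_subschemeι]
    have hsum : ∀ c : Fin _ → X.presheaf.stalk (j z),
        E.e (∑ i, c i • E.e.symm (B i)) = ∑ i, E.φ (c i) • B i := fun c => by
      rw [map_sum]
      exact Finset.sum_congr rfl fun i _ => (E.map_smul _ _).trans (by rw [E.e.apply_symm_apply])
    refine ⟨_, fun i => E.e.symm (B i), fun v => ?_, fun c => ?_⟩
    · choose c hc using fun i => E.surj (B.repr (E.e v) i)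
      exact ⟨c, E.e.injective (by simp only [hsum, hc, B.sum_repr])⟩
    · refine Iff.trans ⟨fun h => ?_, fun h => E.e.injective ?_⟩ (forall_congr' fun i => hk (c i))
      · refine Fintype.linearIndependent_iff.1 B.linearIndependent (fun i => E.φ (c i)) ?_
        exact (hsum c).symm.trans ((congrArg E.e h).trans (map_zero _))
      · rw [hsum, map_zero]
        exact Finset.sum_eq_zero fun i _ => by rw [h i]; exact zero_smul _ _
  · haveI : Subsingleton ((Groth.L00.Stk.F X x).obj ((Scheme.Modules.pushforward j).obj V)) :=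
      Groth.L17.ClosedPush.subsingleton_stalk_push j V hx
    exact ⟨0, Fin.elim0, fun v => ⟨Fin.elim0, Subsingleton.elim _ _⟩,
      fun c => ⟨fun _ i => i.elim0, fun _ => Subsingleton.elim _ _⟩⟩

namespace PSys

variable (T : PSys I)

instance (n : ℕ) : Epi (T.tr n) := epi_of_sm _ (T.surj n)

/-- Frames of the levels. -/
theorem exists_frame (n : ℕ) (x : X) :
    ∃ (m : ℕ) (b : Fin m → (Groth.L00.Stk.F X x).obj (T.G n)),
      (∀ v, ∃ c : Fin m → X.presheaf.stalk x, ∑ i, c i • b i = v) ∧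
      ∀ c : Fin m → X.presheaf.stalk x, ∑ i, c i • b i = 0 ↔ ∀ i, c i ∈ sI I x ^ (n + 1) := by
  obtain ⟨V, hV, ⟨e⟩⟩ := T.vb n
  obtain ⟨m, b, h1, h2⟩ := exists_frame_push (I ^ (n + 1)) hV x
  simp only [Groth.L20.Infinitesimal.sI_pow] at h2
  let ε := ((Groth.L00.Stk.F X x).mapIso e).toLinearEquiv
  have hsum : ∀ c : Fin m → X.presheaf.stalk x, ε (∑ i, c i • ε.symm (b i)) = ∑ i, c i • b i := fun c => by
    simp only [map_sum, map_smul, ε.apply_symm_apply]
  refine ⟨m, fun i => ε.symm (b i), fun v => ?_, fun c => ?_⟩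
  · obtain ⟨c, hc⟩ := h1 (ε v)
    exact ⟨c, ε.injective ((hsum c).trans hc)⟩
  · rw [← h2 c, ← hsum c, LinearEquiv.map_eq_zero_iff]

theorem kill (n : ℕ) (x : X) {c : X.presheaf.stalk x} (hc : c ∈ sI I x ^ (n + 1))
    (v : (Groth.L00.Stk.F X x).obj (T.G n)) : c • v = 0 := by
  obtain ⟨m, b, h1, h2⟩ := T.exists_frame n x
  obtain ⟨d, rfl⟩ := h1 v
  simp only [Finset.smul_sum, smul_smul]
  exact (h2 _).2 fun i => Ideal.mul_mem_right _ _ hc

theorem eq_zero_of_mem (n : ℕ) (x : X) {v : (Groth.L00.Stk.F X x).obj (T.G n)}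
    (hv : v ∈ pw I x (T.G n) (n + 1)) : v = 0 :=
  Submodule.smul_induction_on hv (fun _ hr w _ => T.kill n x hr w) fun a b ha hb => by rw [ha, hb, add_zero]

theorem coh [IsLocallyNoetherian X] (n : ℕ) : Coh.IsCoh (T.G n) := by
  obtain ⟨V, hV, ⟨e⟩⟩ := T.vb n
  haveI : IsLocallyNoetherian (I ^ (n + 1)).subscheme :=
    LocallyOfFiniteType.isLocallyNoetherian (I ^ (n + 1)).subschemeι
  exact Groth.L16.CohSupport.isCoh_of_iso e.symm
    (Groth.L16.CohClosedPush.isCoh_push _ (Groth.L16.NegPow.isCoh_of_isFinLocFree hV))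

/-- The composite transitions. -/
def tau {n k : ℕ} (h : n ≤ k) : T.G k ⟶ T.G n :=
  Nat.leRecOn (C := fun k => T.G k ⟶ T.G n) h (fun {k} g => T.tr k ≫ g) (𝟙 _)

theorem tau_self (n : ℕ) : T.tau (le_refl n) = 𝟙 _ := Nat.leRecOn_self (C := fun k => T.G k ⟶ T.G n) _

theorem tau_succ {n k : ℕ} (h : n ≤ k) : T.tau (h.trans k.le_succ) = T.tr k ≫ T.tau h :=
  Nat.leRecOn_succ (C := fun k => T.G k ⟶ T.G n) h (next := fun {k} g => T.tr k ≫ g) (𝟙 _)

theorem tau_le_succ (n : ℕ) : T.tau n.le_succ = T.tr n :=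
  (T.tau_succ (le_refl n)).trans (by rw [tau_self, Category.comp_id])

theorem tau_comp {l n k : ℕ} (h : l ≤ n) (h' : n ≤ k) : T.tau h' ≫ T.tau h = T.tau (h.trans h') := by
  induction h' with
  | refl => rw [tau_self, Category.id_comp]
  | @step k h' ih =>
    rw [show T.tau (Nat.le.step h') = T.tr k ≫ T.tau h' from T.tau_succ h', Category.assoc, ih]
    exact (T.tau_succ (h.trans h')).symm

instance epi_tau {n k : ℕ} (h : n ≤ k) : Epi (T.tau h) := by
  induction h with
  | refl => rw [tau_self]; infer_instance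
  | @step k h ih =>
    rw [show T.tau (Nat.le.step h) = T.tr k ≫ T.tau h from T.tau_succ h]
    exact epi_comp _ _

/-- The kernels of the transitions. -/
theorem tau_ker {n k : ℕ} (h : n ≤ k) (x : X) : ∀ (v : (Groth.L00.Stk.F X x).obj (T.G k)),
    sm x (T.tau h) v = 0 → v ∈ pw I x (T.G k) (n + 1) := by
  induction h with
  | refl => intro v hv; rw [tau_self, sm_id] at hv; rw [hv]; exact Submodule.zero_mem _
  | @step k h ih =>
    intro v hv
    rw [show T.tau (Nat.le.step h) = T.tr k ≫ T.tau h from T.tau_succ h, sm_comp] at hv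
    obtain ⟨u, hu, hu'⟩ := exists_preimage_pw I (T.tr k) (n + 1) (ih _ hv)
    have h2 := T.ker_tr k x (v - u) (by rw [sm_map_sub, hu', sub_self])
    rw [← sub_add_cancel v u]
    exact add_mem (Submodule.smul_mono_left (Ideal.pow_le_pow_right (Nat.succ_le_succ h)) h2) hu

/-- Surjectivity at the bottom level suffices. -/
theorem epi_of_epi_zero {E : X.Modules} (ψ : ∀ n, E ⟶ T.G n) (hψ : ∀ n, ψ (n + 1) ≫ T.tr n = ψ n) [Epi (ψ 0)] :
    ∀ n, Epi (ψ n)
  | 0 => inferInstance
  | n + 1 => by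
    haveI := epi_of_epi_zero ψ hψ n
    refine epi_of_sm _ fun x v => ?_
    have key : ∀ y : (Groth.L00.Stk.F X x).obj (T.G (n + 1)),
        ∃ a, y - sm x (ψ (n + 1)) a ∈ pw I x (T.G (n + 1)) (n + 1) := fun y => by
      obtain ⟨a, ha⟩ := surjective_sm (ψ n) x (sm x (T.tr n) y)
      exact ⟨a, T.ker_tr n x _ (by rw [sm_map_sub, ← sm_comp, hψ, ha, sub_self])⟩
    have h1 : ∀ y ∈ pw I x (T.G (n + 1)) (n + 1), ∃ a, sm x (ψ (n + 1)) a = y := fun y hy => by
      refine Submodule.smul_induction_on hy (fun r hr w _ => ?_) fun a b ⟨a', ha⟩ ⟨b', hb⟩ =>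
        ⟨a' + b', by rw [sm_map_add, ha, hb]⟩
      obtain ⟨a, ha⟩ := key w
      refine ⟨r • a, ?_⟩
      rw [sm_smul, eq_comm, ← sub_eq_zero, ← smul_sub]
      refine Submodule.smul_induction_on ha (fun s hs z _ => ?_) fun a b ha hb => by rw [smul_add, ha, hb, add_zero]
      rw [smul_smul]
      refine T.kill (n + 1) x ?_ z
      have := Ideal.mul_mem_mul hr hs
      rw [← pow_add] at this
      exact Ideal.pow_le_pow_right (by omega) this
    obtain ⟨a, ha⟩ := key v
    obtain ⟨b, hb⟩ := h1 _ ha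
    exact ⟨a + b, by rw [sm_map_add, hb, add_sub_cancel]⟩

/-- Quasi-regularity of the equations on a level. -/
theorem coeff_mem {x : X} {c : ℕ} (f : Fin c → X.presheaf.stalk x) (hf : sI I x = Ideal.span (Set.range f))
    (hreg : RingTheory.Sequence.IsWeaklyRegular (X.presheaf.stalk x) (List.ofFn f)) (n : ℕ)
    (s : Finset (Fin c →₀ ℕ)) (hs : ∀ e ∈ s, e.degree = n)
    (m : (Fin c →₀ ℕ) → (Groth.L00.Stk.F X x).obj (T.G n)) (h : ∑ e ∈ s, aE f e • m e = 0) :
    ∀ e ∈ s, m e ∈ pw I x (T.G n) 1 := by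
  obtain ⟨ρ, b, h1, h2⟩ := T.exists_frame n x
  choose a ha using fun e => h1 (m e)
  have h3 : ∀ i, ∑ e ∈ s, aE f e * a e i ∈ sI I x ^ (n + 1) := by
    refine (h2 _).1 ?_
    rw [← h]
    simp only [Finset.sum_smul, mul_smul]
    rw [Finset.sum_comm]
    simp only [← Finset.smul_sum, ha]
  intro e he
  rw [← ha e]
  refine Submodule.sum_mem _ fun i _ => ?_
  show _ ∈ sI I x ^ 1 • (⊤ : Submodule (X.presheaf.stalk x) _)
  rw [pow_one]
  refine Submodule.smul_mem_smul ?_ trivial
  have := Groth.L29.QRegMod.mem_smul_top_of_sum_mem f (X.presheaf.stalk x) hreg n s hs (fun e => a e i)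
    (by simpa only [smul_eq_mul, Ideal.mul_top, ← hf] using h3 i) e he
  simpa only [smul_eq_mul, Ideal.mul_top, ← hf] using this

end PSys

variable [IsLocallyNoetherian X] (I)

theorem isCoh_lvl (𝔐 : FSch.ModSys (FSch.completionAlong X I)) (hfree : LefX.LevelwiseFinLocFree 𝔐) : 𝔐.IsCoh :=
  fun k => by
    haveI := Groth.L17.FSheaf.isClosedImmersion_completionToX I k
    haveI : IsLocallyNoetherian ((FSch.completionAlong X I).X k) :=
      LocallyOfFiniteType.isLocallyNoetherian (FSch.completionToX X I k)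
    exact Groth.L16.NegPow.isCoh_of_isFinLocFree (hfree k)

omit [IsLocallyNoetherian X] in
/-- The germs of the multiples of an ideal of sections. -/
theorem germ_mem_pw {G : X.Modules} {W : X.Opens} (hW : IsAffineOpen W) {x : X} (hxW : x ∈ W) (m : ℕ)
    {y : Γ(G, W)} (hy : y ∈ I.ideal ⟨W, hW⟩ ^ m • (⊤ : Submodule Γ(X, W) Γ(G, W))) :
    (show (Groth.L00.Stk.F X x).obj G from G.presheaf.germ W x hxW y) ∈ pw I x G m := by
  refine Submodule.smul_induction_on hy (fun r hr a _ => ?_) fun a b ha hb => ?_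
  · have h1 : X.presheaf.germ W x hxW r ∈ sI I x ^ m := by
      rw [Groth.L20.SeeNormal.sI_eq _ ⟨W, hW⟩ hxW, ← Ideal.map_pow]
      exact Ideal.mem_map_of_mem _ hr
    rw [show G.presheaf.germ W x hxW (r • a) = _ from Groth.L20.ModStalk.germ_smul _ hxW r a]
    exact Submodule.smul_mem_smul h1 trivial
  · rw [map_add]
    exact add_mem ha hb

/-- The system of a levelwise locally free system on the completion. -/
def sysOf (𝔐 : FSch.ModSys (FSch.completionAlong X I)) (hfree : LefX.LevelwiseFinLocFree 𝔐) : PSys I where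
  G n := gObj (FSch.completionAlong X I) (FSch.completionToX X I) 𝔐 n
  tr n := gTr (FSch.completionAlong X I) (FSch.completionToX X I) (FSch.completionToX_comm X I) 𝔐 n
  vb n := ⟨𝔐.F n, hfree n, ⟨Iso.refl _⟩⟩
  surj n x v := by
    let P := gObj (FSch.completionAlong X I) (FSch.completionToX X I) 𝔐 (n + 1)
    let Q := gObj (FSch.completionAlong X I) (FSch.completionToX X I) 𝔐 n
    obtain ⟨U, hxU, z, rfl⟩ := TopCat.Presheaf.exists_germ_eq (F := Q.presheaf) (x := x) v
    obtain ⟨W, hW, hxW, hWU⟩ := exists_isAffineOpen_mem_and_subset (x := x) (U := U) hxU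
    obtain ⟨y, hy⟩ := (gTr_spec I 𝔐 (isCoh_lvl I 𝔐 hfree) hW n).1 (rs _ hWU z)
    refine ⟨P.presheaf.germ W x hxW y, ?_⟩
    refine (TopCat.Presheaf.stalkFunctor_map_germ_apply W x hxW _ y).trans ?_
    exact (congrArg (Q.presheaf.germ W x hxW) hy).trans
      (TopCat.Presheaf.germ_res_apply Q.presheaf (homOfLE hWU) x hxW z)
  ker_tr n x v hv := by
    let P := gObj (FSch.completionAlong X I) (FSch.completionToX X I) 𝔐 (n + 1)
    let Q := gObj (FSch.completionAlong X I) (FSch.completionToX X I) 𝔐 n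
    obtain ⟨U, hxU, y, rfl⟩ := TopCat.Presheaf.exists_germ_eq (F := P.presheaf) (x := x) v
    have h0 : Q.presheaf.germ U x hxU ((gTr (FSch.completionAlong X I) (FSch.completionToX X I) (FSch.completionToX_comm X I) 𝔐 n).app U y) =
        Q.presheaf.germ U x hxU 0 := by
      rw [map_zero]
      exact (TopCat.Presheaf.stalkFunctor_map_germ_apply U x hxU _ y).symm.trans hv
    obtain ⟨U', hxU', i, j, hij⟩ := TopCat.Presheaf.germ_eq _ x hxU hxU _ _ h0
    rw [map_zero] at hij
    obtain ⟨W, hW, hxW, hWU'⟩ := exists_isAffineOpen_mem_and_subset (x := x) (U := U') hxU'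
    have hWU : W ≤ U := fun z hz => i.le (hWU' hz)
    have hy : (gTr (FSch.completionAlong X I) (FSch.completionToX X I) (FSch.completionToX_comm X I) 𝔐 n).app W (rs _ hWU y) = 0 := by
      refine (app_rs _ hWU y).trans ?_
      show Q.presheaf.map (homOfLE hWU).op _ = 0
      rw [show (homOfLE hWU).op = i.op ≫ (homOfLE hWU').op from Subsingleton.elim _ _, Functor.map_comp,
        ConcreteCategory.comp_apply, hij, map_zero]
    have := germ_mem_pw I (G := P) hW hxW (n + 1) (((gTr_spec I 𝔐 (isCoh_lvl I 𝔐 hfree) hW n).2 _).1 hy)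
    rw [show P.presheaf.germ W x hxW (rs P hWU y) = P.presheaf.germ U x hxU y from
      TopCat.Presheaf.germ_res_apply P.presheaf (homOfLE hWU) x hxW y] at this
    exact this

end Groth.L13.LeffCI
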