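import Groth.Agent.L21.PlaneCurve.HypIdeal
import Groth.Agent.L18.CIProjChart
import Groth.Agent.L16.ProjSpace.TwistMul
import Groth.Agent.L20.SeeNormal.Sheaf
import Groth.Agent.L03.Euler.Drop
import Groth.Agent.L22.Reg.Lin

/-!
# Multiplication by forms between the twists
-/

set_option autoImplicit false
set_option linter.style.haveILetI false
set_option linter.unusedSectionVars false
set_option backward.isDefEq.respectTransparency false
set_option backward.isDefEq.respectTransparency.types false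
universe u

open CategoryTheory CategoryTheory.Limits AlgebraicGeometry TopologicalSpace Opposite

noncomputable section

namespace Groth.L13.LeffCI

open Groth.L16.ProjTwist (gen mulSect one_notMem notMem_pow sectN_ext smul_gen_injective smul_gen_surjective)
open Groth.L18.Frame (rs ro pull IsFrame)

section Gen

variable {R A : Type u} [CommRing R] [CommRing A] [Algebra R A] {𝒜 : ℕ → Submodule R A} [GradedAlgebra 𝒜]

/-- `F / 1`. -/
def formSect {a : ℕ} (F : 𝒜 a) (U : (Opens (ProjectiveSpectrum.top 𝒜))ᵒᵖ) : Twist.sectN (𝒜 := 𝒜) (a : ℤ) U :=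
  gen F (⟨1, SetLike.GradedOne.one_mem⟩ : 𝒜 0) (by simp) U.unop fun x => one_notMem _ x.1

/-- Multiplication by a form, sectionwise. -/
def fmApp {a : ℕ} (F : 𝒜 a) (w : ℤ) (U : (Proj 𝒜).Opensᵒᵖ) :
    (Twist.twist 𝒜 w).presheaf.obj U ⟶ (Twist.twist 𝒜 (w + a)).presheaf.obj U :=
  AddCommGrpCat.ofHom (AddMonoidHom.mk'
    (fun f : Twist.sectN (𝒜 := 𝒜) w U => mulSect f (formSect F U))
    fun f g => Groth.L16.ProjTwist.mulSect_add₁ f g _)

/-- Multiplication by a homogeneous element. -/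
def fmGen {a : ℕ} (F : 𝒜 a) (w : ℤ) : Twist.twist 𝒜 w ⟶ Twist.twist 𝒜 (w + a) :=
  ⟨PresheafOfModules.homMk { app := fmApp F w, naturality := fun _ _ _ => by ext; rfl }
    fun U c f => Groth.L16.ProjTwist.mulSect_smul₁ c f (formSect F U)⟩

/-- The value of a section at a point. -/
def valG {w : ℤ} {U : (Proj 𝒜).Opens} (f : Twist.sectN (𝒜 := 𝒜) w (op U))
    (x : (U : Opens (ProjectiveSpectrum.top 𝒜))) : Twist.Loc 𝒜 x.1 := (f.1 x).1

theorem valG_fmGen {a : ℕ} (F : 𝒜 a) (w : ℤ) {U : (Proj 𝒜).Opens}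
    (f : Twist.sectN (𝒜 := 𝒜) w (op U)) (x : (U : Opens (ProjectiveSpectrum.top 𝒜))) :
    valG (𝒜 := 𝒜) (w := w + a) ((fmGen F w).app U f) x =
      valG f x * Localization.mk F.1 ⟨1, one_notMem _ x.1⟩ := rfl

theorem exists_fmG {a : ℕ} (F : 𝒜 a) (w : ℤ) :
    ∀ (v : ℤ) (_ : v = w + a), ∃ φ : Twist.twist 𝒜 w ⟶ Twist.twist 𝒜 v,
      ∀ (U : (Proj 𝒜).Opens) (f : Twist.sectN (𝒜 := 𝒜) w (op U))
        (x : (U : Opens (ProjectiveSpectrum.top 𝒜))),
        valG (𝒜 := 𝒜) (w := v) (φ.app U f) x = valG f x * Localization.mk F.1 ⟨1, one_notMem _ x.1⟩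
  | _, rfl => ⟨fmGen F w, fun _ f x => valG_fmGen F w f x⟩

/-- Multiplication by a homogeneous element between twists. -/
def fmG {a : ℕ} (F : 𝒜 a) {w v : ℤ} (h : v = w + a) : Twist.twist 𝒜 w ⟶ Twist.twist 𝒜 v :=
  (exists_fmG F w v h).choose

theorem valG_fmG {a : ℕ} (F : 𝒜 a) {w v : ℤ} (h : v = w + a) {U : (Proj 𝒜).Opens}
    (f : Twist.sectN (𝒜 := 𝒜) w (op U)) (x : (U : Opens (ProjectiveSpectrum.top 𝒜))) :
    valG (𝒜 := 𝒜) (w := v) ((fmG F h).app U f) x =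
      valG f x * Localization.mk F.1 ⟨1, one_notMem _ x.1⟩ :=
  (exists_fmG F w v h).choose_spec U f x

theorem valG_comp {a b : ℕ} (F : 𝒜 a) (G : 𝒜 b) {u v w : ℤ} (h₁ : v = u + a) (h₂ : w = v + b)
    {U : (Proj 𝒜).Opens} (f : Twist.sectN (𝒜 := 𝒜) u (op U)) (x : (U : Opens (ProjectiveSpectrum.top 𝒜))) :
    valG (𝒜 := 𝒜) (w := w) ((fmG F h₁ ≫ fmG G h₂).app U f) x =
      valG f x * Localization.mk F.1 ⟨1, one_notMem _ x.1⟩ * Localization.mk G.1 ⟨1, one_notMem _ x.1⟩ :=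
  (valG_fmG G h₂ ((fmG F h₁).app U f) x).trans
    (congrArg (· * Localization.mk G.1 ⟨1, one_notMem _ x.1⟩) (valG_fmG F h₁ f x))

theorem ext_valG {u w : ℤ} {φ ψ : Twist.twist 𝒜 u ⟶ Twist.twist 𝒜 w}
    (h : ∀ (U : (Proj 𝒜).Opens) (f : Twist.sectN (𝒜 := 𝒜) u (op U)) (x : (U : Opens (ProjectiveSpectrum.top 𝒜))),
      valG (𝒜 := 𝒜) (w := w) (φ.app U f) x = valG (𝒜 := 𝒜) (w := w) (ψ.app U f) x) : φ = ψ :=
  Scheme.Modules.hom_ext _ _ fun U => AddCommGrpCat.hom_ext (AddMonoidHom.ext fun f =>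
    sectN_ext (𝒜 := 𝒜) fun x => h U f x)

theorem fmG_comm {a b : ℕ} (F : 𝒜 a) (G : 𝒜 b) {u v v' w : ℤ} (h₁ : v = u + a)
    (h₂ : w = v + b) (h₁' : v' = u + b) (h₂' : w = v' + a) : fmG F h₁ ≫ fmG G h₂ = fmG G h₁' ≫ fmG F h₂' :=
  ext_valG fun U f x => (valG_comp F G h₁ h₂ f x).trans
    ((mul_right_comm _ _ _).trans (valG_comp G F h₁' h₂' f x).symm)

variable {t : A} (ht : t ∈ 𝒜 1)

include ht in
theorem t_notMem (x : (Proj.basicOpen 𝒜 t : Opens (ProjectiveSpectrum.top 𝒜))) (d : ℕ) :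
    t ^ d ∉ x.1.asHomogeneousIdeal :=
  notMem_pow 𝒜 ((Proj.mem_basicOpen _ _ _).1 x.2) d

/-- The standard frame of `O(w)` on `D_+(t)`. -/
def frameG (w : ℤ) : Twist.sectN (𝒜 := 𝒜) w (op (Proj.basicOpen 𝒜 t)) :=
  gen (⟨_, SetLike.pow_mem_graded w.toNat ht⟩ : 𝒜 (w.toNat • 1))
    (⟨_, SetLike.pow_mem_graded (-w).toNat ht⟩ : 𝒜 ((-w).toNat • 1))
    (by simp only [smul_eq_mul, mul_one]; omega) _ fun x => t_notMem ht x _

theorem isFrame_frameG (w : ℤ) :
    IsFrame (Twist.twist 𝒜 w) (Proj.basicOpen 𝒜 t) (frameG ht w) := by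
  intro V h
  let A : 𝒜 (w.toNat • 1) := ⟨_, SetLike.pow_mem_graded w.toNat ht⟩
  let B : 𝒜 ((-w).toNat • 1) := ⟨_, SetLike.pow_mem_graded (-w).toNat ht⟩
  have hN : ((w.toNat • 1 : ℕ) : ℤ) = ((-w).toNat • 1 : ℕ) + w := by simp only [smul_eq_mul, mul_one]; omega
  have hA : ∀ x : (V : Opens (ProjectiveSpectrum.top 𝒜)), A.1 ∉ x.1.asHomogeneousIdeal :=
    fun x => t_notMem ht ⟨x.1, h x.2⟩ _
  have hB : ∀ x : (V : Opens (ProjectiveSpectrum.top 𝒜)), B.1 ∉ x.1.asHomogeneousIdeal :=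
    fun x => t_notMem ht ⟨x.1, h x.2⟩ _
  exact ⟨smul_gen_injective A B hN V hB hA, smul_gen_surjective A B hN V hA hB⟩

theorem fmG_frameG {a : ℕ} (F : 𝒜 a) {w v : ℤ} (h : v = w + a) :
    (fmG F h).app (Proj.basicOpen 𝒜 t) (frameG ht w) =
      (Proj.awayToSection 𝒜 t).hom (HomogeneousLocalization.Away.mk 𝒜 ht a F.1
        (by rw [smul_eq_mul, mul_one]; exact F.2)) • (show Γ(Twist.twist 𝒜 v, Proj.basicOpen 𝒜 t) from frameG ht v) := by
  refine sectN_ext (𝒜 := 𝒜) fun x => ?_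
  refine (valG_fmG F h (frameG ht w) x).trans ?_
  refine Eq.trans ?_ (Twist.coe_smul_val _ x.1 _ _).symm
  change Localization.mk _ _ * Localization.mk _ _ = _ * Localization.mk _ _
  erw [ProjectiveSpectrum.Proj.awayToSection_apply, HomogeneousLocalization.Away.val_mk]
  rw [show (Localization.mk F.1 (⟨t ^ a, _⟩ : Submonoid.powers t)) = _ from
    Localization.mk_eq_mk'_apply _ _, IsLocalization.map_mk']
  erw [← Localization.mk_eq_mk'_apply, Localization.mk_mul, Localization.mk_mul]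
  simp only [RingHom.id_apply]
  rw [Localization.mk_eq_mk_iff, Localization.r_iff_exists]
  refine ⟨1, ?_⟩
  simp only [OneMemClass.coe_one, one_mul, Submonoid.coe_mul, mul_one]
  have e : a + (-v).toNat + w.toNat = (-w).toNat + v.toNat := by omega
  have e' := congrArg (fun n => t ^ n) e
  simp only [pow_add] at e'
  linear_combination F.1 * e'

end Gen

variable {k : Type u} [Field k] {N : ℕ}

local notation "PG" => CohB1.polyGrading N k

/-- Multiplication by a form. -/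
def fm {a : ℕ} (F : LefPen.Form N k a) {w v : ℤ} (h : v = w + a) :
    Twist.twistProjSpace N k w ⟶ Twist.twistProjSpace N k v :=
  fmG (𝒜 := PG) F h

theorem fm_comm {a b : ℕ} (F : LefPen.Form N k a) (G : LefPen.Form N k b) {u v v' w : ℤ} (h₁ : v = u + a)
    (h₂ : w = v + b) (h₁' : v' = u + b) (h₂' : w = v' + a) : fm F h₁ ≫ fm G h₂ = fm G h₁' ≫ fm F h₂' :=
  fmG_comm (𝒜 := PG) F G h₁ h₂ h₁' h₂'

/-- The standard frame of `O(w)` on a chart. -/
def frameE (w : ℤ) (i : Fin (N + 1)) : Γ(Twist.twistProjSpace N k w, LefPen.chart N k i) :=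
  frameG (𝒜 := PG) (LefPen.X_mem N k i) w

theorem isFrame_frameE (w : ℤ) (i : Fin (N + 1)) :
    IsFrame (Twist.twistProjSpace N k w) (LefPen.chart N k i) (frameE w i) :=
  isFrame_frameG (𝒜 := PG) (LefPen.X_mem N k i) w

theorem fm_frameE {a : ℕ} (F : LefPen.Form N k a) {w v : ℤ} (h : v = w + a) (i : Fin (N + 1)) :
    (fm F h).app (LefPen.chart N k i) (frameE w i) = LefPen.dehom F i • frameE v i :=
  fmG_frameG (𝒜 := PG) (ht := LefPen.X_mem N k i) F h

variable {X : Scheme.{u}} (ι : X ⟶ CohB1.ProjSpace N k)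

/-- `O(w)` on `X`. -/
def T (w : ℤ) : X.Modules := (Scheme.Modules.pullback ι).obj (Twist.twistProjSpace N k w)

theorem isInvertible_T (w : ℤ) : PicF.IsInvertible (T ι w) :=
  Groth.L18.Ample.isInvertible_pullback ι (Groth.L16.ProjTwist.isInvertible_twistProjSpace N k w)

/-- Multiplication by a form on `X`. -/
def fX {a : ℕ} (F : LefPen.Form N k a) {w v : ℤ} (h : v = w + a) : T ι w ⟶ T ι v :=
  (Scheme.Modules.pullback ι).map (fm F h)

theorem fX_comm {a b : ℕ} (F : LefPen.Form N k a) (G : LefPen.Form N k b) {u v v' w : ℤ} (h₁ : v = u + a)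
    (h₂ : w = v + b) (h₁' : v' = u + b) (h₂' : w = v' + a) : fX ι F h₁ ≫ fX ι G h₂ = fX ι G h₁' ≫ fX ι F h₂' := by
  rw [fX, fX, fX, fX, ← Functor.map_comp, ← Functor.map_comp, fm_comm F G h₁ h₂ h₁' h₂']

theorem pull_map {M M' : (CohB1.ProjSpace N k).Modules} (g : M ⟶ M') (V : (CohB1.ProjSpace N k).Opens)
    (m : Γ(M, V)) :
    ((Scheme.Modules.pullback ι).map g).app (ι ⁻¹ᵁ V) (pull ι M V m) = pull ι M' V (g.app V m) :=
  (congr(($((Scheme.Modules.pullbackPushforwardAdjunction ι).unit.naturality g)).app V m)).symm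

open Groth.L22.Reg (sm) in
/-- Frames at a point of `X`, and the equations in them. -/
theorem exists_frames {r : ℕ} {a : Fin r → ℕ} (G : ∀ j, LefPen.Form N k (a j)) (x : X) :
    ∃ (e : ∀ w, (T ι w).presheaf.stalk x) (c : Fin r → X.presheaf.stalk x),
      (∀ w, Function.Bijective fun b : X.presheaf.stalk x => b • e w) ∧
      (∀ (j : Fin r) (w v : ℤ) (h : v = w + (a j : ℤ)), sm x (fX ι (G j) h) (e w) = c j • e v) ∧
      Groth.L20.SeeNormal.sI ((LefPen.ciIdeal G).comap ι) x = Ideal.span (Set.range c) := by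
  obtain ⟨i, hi⟩ := Groth.L21.PlaneCurve.exists_mem_chart (ι x)
  let V := LefPen.chart N k i
  have hx : x ∈ ι ⁻¹ᵁ V := hi
  refine ⟨fun w => (T ι w).presheaf.germ (ι ⁻¹ᵁ V) x hx (pull ι _ V (frameE w i)),
    fun j => X.presheaf.germ (ι ⁻¹ᵁ V) x hx (ι.app V (LefPen.dehom (G j) i)), fun w => ?_, fun j w v h => ?_, ?_⟩
  · exact Groth.L03.Euler.bijective_toSpanSingleton_germ
      (Groth.L18.Frame.IsFrame.pullback ι _ (isFrame_frameE w i)) hx
  · refine (TopCat.Presheaf.stalkFunctor_map_germ_apply (ι ⁻¹ᵁ V) x hx _ (pull ι _ V (frameE w i))).trans ?_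
    have h1 : (fX ι (G j) h).app (ι ⁻¹ᵁ V) (pull ι _ V (frameE w i)) =
        ι.app V (LefPen.dehom (G j) i) • pull ι _ V (frameE v i) := by
      refine Eq.trans (pull_map ι (fm (G j) h) V (frameE w i)) ?_
      rw [fm_frameE, Groth.L18.Frame.pull_smul]
    exact (congrArg ((T ι v).presheaf.germ (ι ⁻¹ᵁ V) x hx) h1).trans (Groth.L20.ModStalk.germ_smul _ hx _ _)
  · rw [Groth.L20.SeeNormal.sI_comap, Groth.L20.SeeNormal.sI_eq _ ⟨V, Groth.L21.PlaneCurve.isAffineOpen_chart i⟩ hi,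
      Groth.L18.CIProj.ciIdeal_chart, Ideal.map_span, Ideal.map_span, ← Set.range_comp, ← Set.range_comp]
    refine congrArg Ideal.span (congrArg Set.range (funext fun j => ?_))
    exact Scheme.Hom.germ_stalkMap_apply ι V x hi _

end Groth.L13.LeffCI
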