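import Groth.Agent.L13.LeffCI.Lift
import Groth.Agent.L13.FEtLeff.Ample
import Groth.Agent.L18.LefTowerVan
import Groth.Agent.L16.ProperFinite
import Groth.Agent.L16.Rees.RelVanish
import Groth.Agent.L11.Magnet.Factor

/-!
# Cohomology of the twists of the bottom level
-/

set_option autoImplicit false
set_option linter.style.haveILetI false
set_option linter.unusedSectionVars false
set_option backward.isDefEq.respectTransparency false
set_option backward.isDefEq.respectTransparency.types false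
universe u

open CategoryTheory CategoryTheory.Limits AlgebraicGeometry Opposite

noncomputable section

namespace Groth.L13.LeffCI

open Groth.L00.Tensor (tensorIso tensorComm)

variable {k : Type u} [Field k] {N : ℕ} {X : Scheme.{u}} [X.Over (Spec (CommRingCat.of k))]
  [IsProper (X ↘ Spec (CommRingCat.of k))] {ι : X ⟶ CohB1.ProjSpace N k} {I : X.IdealSheafData} (𝔗 : PSys I)

theorem finite_Lv (w : ℤ) (q : ℕ) : Module.Finite k (Coh.HH X (Lv ι 𝔗 w 0) q) := by
  haveI : IsLocallyNoetherian X := LocallyOfFiniteType.isLocallyNoetherian (X ↘ Spec (CommRingCat.of k))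
  exact Groth.L16.ProperFinite.finite_HH k (Groth.L16.CohSupport.isCoh_of_iso (tensorComm _ _)
    (Groth.L03.Euler.isCoh_tensor (isInvertible_T ι w) (𝔗.coh 0))) q

/-- The band outside which the first cohomology of the twists vanishes. -/
theorem exists_band (hL : CohB1.IsAmple (T ι 1))
    (hd : ∀ z : ↥(I ^ (0 + 1)).subscheme, IsClosed ({z} : Set ↥(I ^ (0 + 1)).subscheme) →
      (2 : ℕ∞) ≤ LocCoh.depth ((I ^ (0 + 1)).subscheme.presheaf.stalk z) ((I ^ (0 + 1)).subscheme.presheaf.stalk z)) :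
    ∃ w₀ w₁ : ℤ, ∀ w ∉ Finset.Icc w₀ w₁, Subsingleton (Coh.HH X (Lv ι 𝔗 w 0) 1) := by
  let f := X ↘ Spec (CommRingCat.of k)
  haveI : IsLocallyNoetherian X := LocallyOfFiniteType.isLocallyNoetherian f
  let J := I ^ (0 + 1)
  obtain ⟨V, hV, ⟨eV⟩⟩ := 𝔗.vb 0
  obtain ⟨d₀, hd₀⟩ := Groth.L16.Rees.RelVanish.exists_vanishing f hL (𝔗.coh 0)
  haveI : Flat (J.subschemeι ≫ f) := Groth.L11.Magnet.flat_of_field (Over.mk (J.subschemeι ≫ f))
  obtain ⟨einv⟩ := nonempty_T_inv ι 1
  obtain ⟨j₀, hj⟩ := Groth.L18.LefTower.van_push (A := k) f J.subschemeι hL einv (fun y hy => by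
    rw [Groth.L13.FEtLeff.depth_fiberStalk_field]
    haveI : Subsingleton ↥(Spec (CommRingCat.of k)) := inferInstanceAs (Subsingleton (PrimeSpectrum k))
    exact hd y (Groth.L13.FEtLeff.isClosed_of_asFiber (J.subschemeι ≫ f) y
      (Set.Subsingleton.isClosed Set.subsingleton_singleton) hy)) hV
  refine ⟨-(j₀ : ℤ) + 1, (d₀ : ℤ) - 1, fun w hw => ?_⟩
  rw [Finset.mem_Icc, not_and_or] at hw
  rcases hw with hw | hw
  · obtain ⟨m, hm⟩ : ∃ m : ℕ, w = -(m : ℤ) := ⟨(-w).toNat, by omega⟩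
    subst hm
    obtain ⟨e⟩ := nonempty_T_negPow ι m
    exact Groth.L22.EnrSev.subsingleton_of_iso
      ((tensorIso eV e.symm).symm ≪≫ tensorComm (𝔗.G 0) (T ι (-(m : ℤ)))) 1 (hj m (by omega) 1 le_rfl)
  · obtain ⟨m, hm⟩ : ∃ m : ℕ, w = (m : ℤ) := ⟨w.toNat, by omega⟩
    subst hm
    obtain ⟨e⟩ := nonempty_T_pow ι m
    exact Groth.L22.EnrSev.subsingleton_of_iso
      (tensorIso (Iso.refl _) e ≪≫ tensorComm (𝔗.G 0) (T ι (m : ℤ))) 1 (hd₀ m (by omega) 1 one_pos)

end Groth.L13.LeffCI
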